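import Mathlib
import Cfsg.Agent.Lib.Blocks.Quaternion.Rows
import Cfsg.Agent.Lib.Blocks.Star.AbelianColumn
import Cfsg.Agent.Lib.Blocks.KleinFourBlock
import Cfsg.Agent.Lib.Blocks.CentralStep.Subsections
import Cfsg.Agent.BlockCharsA.Weight

/-!
# The column at an involution with centraliser of order four in the top

Its block has one Brauer character, and the column is integral with squared norm four.
-/

set_option linter.style.haveILetI false
set_option linter.unusedSectionVars false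

namespace Cfsg.Agent.Blocks.Semidihedral

open Cfsg.Agent.Blocks Cfsg.Agent.Characters Cfsg.Agent.Blocks.Star
open Cfsg.Agent.Blocks.CentralStep Cfsg.Agent.Blocks.Quaternion
open Cfsg.Agent.BlockCharsA Cfsg.Agent.BlockCharsA.BrauerPairs Cfsg.Agent.BlockCharsA.PairConj
open Cfsg.Agent.BlockCharsA.PairLocal Cfsg.Agent.BlockCharsA.PairCorr
open Cfsg.Agent.BlockCharsA.Contrib
open MonoidAlgebra
open scoped ComplexConjugate

universe u

variable {G : Type u} [Group G] [Finite G] {M : Ideal Cfsg.AlgInt}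
  {B : Set (Cfsg.IrrCharacter G)} {P : Subgroup G}
  {e : Set (Cfsg.IrrCharacter (Subgroup.centralizer (P : Set G)))}

/-- The defect group of the block at an element whose fused elements have no larger centralisers. -/
theorem isDefectGroup_at {p : ℕ} (hM : Cfsg.IsPModular p M)
    (hmax : Cfsg.IsMaximalBrauerPair p M B P e) (v : P)
    (hfc : ∀ w : P, Fused p M e v w →
      Nat.card ↥(P ⊓ CU (w : G)) ≤ Nat.card ↥(P ⊓ CU (v : G))) :
    Cfsg.IsDefectGroup p M (gAt p M e (v : G)) ((P ⊓ CU (v : G)).subgroupOf (CU (v : G))) := by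
  haveI := Fintype.ofFinite G
  obtain ⟨hle, hg, he⟩ := gAt_spec hM hmax v
  refine (defect_iff_largest hM le_rfl centralizer_le_stab hg coeff_self hmax hle).2 fun x hx => ?_
  have hxP : x * (v : G) * x⁻¹ ∈ P := (subpairLE_facts hM hx).1
    (conj_mem_cj.2 (Subgroup.mem_zpowers _))
  set w : P := ⟨x * (v : G) * x⁻¹, hxP⟩
  have hcj : cj (Subgroup.zpowers (v : G)) x = Subgroup.zpowers (w : G) :=
    MonoidHom.map_zpowers (MulAut.conj x).toMonoidHom (v : G)
  have hf : Fused p M e v w := by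
    obtain ⟨g', -, he', hpair⟩ := exists_cj_pair hM (cj_zpowers x (v : G)) hg
    have h1 : Relation.ReflTransGen (Cfsg.NormalSubpairRel p M)
        (cjPair x ⟨Subgroup.zpowers (v : G), gAt p M e (v : G)⟩) ⟨P, e⟩ := hx
    rw [hpair] at h1
    exact ⟨x, rfl, by rw [he, ← he']; exact (eps_eq hM hmax w (g := g') h1).symm⟩
  rw [cj_centralizer, hcj]
  exact hfc w hf

/-- The column at an involution with centraliser of order four. -/
theorem exists_col_invol (hM : Cfsg.IsPModular 2 M) (hmax : Cfsg.IsMaximalBrauerPair 2 M B P e)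
    [Fintype B] {s : P} (hs : (s : G) * s = 1) (hs1 : s ≠ 1)
    (h4 : Nat.card ↥(P ⊓ CU (s : G)) = 4) (hel : ∀ x ∈ P ⊓ CU (s : G), x * x = 1)
    (hfc : ∀ w : P, Fused 2 M e s w → Nat.card ↥(P ⊓ CU (w : G)) ≤ 4) :
    ∃ (τ : B → ℤ) (Φ : G → ℂ), Φ 1 ≠ 0 ∧
      (∀ χ : B, ∀ t ∈ regAt 2 (s : G),
        th ((χ : Cfsg.IrrCharacter G) : G → ℂ) (s : G) (eps 2 M e s) t = (τ χ : ℂ) * Φ t) ∧
      (∀ χ θ : B, wgt 2 M e ((χ : Cfsg.IrrCharacter G) : G → ℂ)
        ((θ : Cfsg.IrrCharacter G) : G → ℂ) s = ((τ χ * τ θ : ℤ) : ℂ) / 4) ∧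
      ∑ χ : B, τ χ ^ 2 = 4 ∧
      ∀ χ : B, Cfsg.blockHeight 2 B ((χ : Cfsg.IrrCharacter G) : G → ℂ) = 0 → τ χ ≠ 0 := by
  classical
  haveI := fact_prime_of_pm hM
  haveI := Fintype.ofFinite G
  haveI := Fintype.ofFinite (Cfsg.IrrCharacter G)
  haveI := Fintype.ofFinite (CU (s : G))
  obtain ⟨hle, hg, he⟩ := gAt_spec hM hmax s
  set g := gAt 2 M e (s : G) with hgdef
  have hdef := isDefectGroup_at hM hmax s fun w hw => h4 ▸ hfc w hw
  set V := (P ⊓ CU (s : G)).subgroupOf (CU (s : G))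
  have hV4 : Nat.card V = 4 := by
    rw [Nat.card_congr (Subgroup.subgroupOfEquivOfLe (inf_le_right : P ⊓ CU (s : G) ≤ _)).toEquiv,
      h4]
  have hsq : ∀ x : V, x * x = 1 := fun x => Subtype.ext (Subtype.ext (hel _ x.2))
  have hV : IsKleinFour V := by
    haveI : Nontrivial V := Finite.one_lt_card_iff_nontrivial.1 (by omega)
    exact ⟨hV4, (Monoid.exponent_eq_prime_iff Nat.prime_two).2 fun x hx =>
      orderOf_eq_prime (by rw [pow_two, hsq]) hx⟩
  -- one Brauer character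
  set sC : CU (s : G) := ⟨(s : G), mem_CU_of_commute (Commute.refl _)⟩
  have hsC : ∀ x : CU (s : G), Commute sC x := fun x => Subtype.ext (commute_of_mem_CU x.2).eq
  have hrk : Cfsg.blockRank 2 g = 1 := by
    obtain ⟨c, hc⟩ := exists_maximal_on hM hg hdef
    obtain ⟨-, -, h1⟩ := KleinFourBlock.invariants hM hc hV _ rfl
    rw [h1, Subgroup.relIndex_eq_one]
    intro w hw
    refine KleinFourBlock.mem_centralizer_of_fix hM hc hV (w := ⟨w, hw⟩)
      (t := (⟨sC, ⟨s.2, sC.2⟩⟩ : V)) (fun e' => hs1 (Subtype.ext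
        (congrArg (fun y : V => ((y : CU (s : G)) : G)) e'))) (Subtype.ext ?_)
    rw [PairFusion.coe_autHom]
    show w * sC * w⁻¹ = sC
    rw [← (hsC w).eq, mul_inv_cancel_right]
  have hd : 2 ^ Cfsg.blockDefect 2 g = 4 := by rw [← card_defectGroup hM hg hdef, hV4]
  obtain ⟨w, Φ₀, hΦ1, hwpos, hrow, hwsum, -⟩ := exists_rows_rank_one hM hg hrk
  haveI := Fintype.ofFinite g
  have hsum : ∑ ψ : g, w ψ ^ 2 = 4 := by rw [hwsum, ← Nat.cast_pow, hd]; rfl
  -- the norm of the common factor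
  have hnorm : regSum 2 Φ₀ Φ₀ = (Nat.card (CU (s : G)) : ℂ) / 4 := by
    obtain ⟨ψ, hψ⟩ := block_nonempty hM hg
    have h1 := contrib_eq_form hM hg (ι := Fin 1) (fun χ _ => w χ) (fun _ => Φ₀)
      (fun χ x hx => by rw [Fin.sum_univ_one]; exact hrow _ χ.2 x hx)
      (fun t ht => funext fun i => by
        have := ht 1 (by simp)
        rw [Fin.sum_univ_one] at this
        rw [Subsingleton.elim i 0]
        exact (mul_eq_zero.1 this).resolve_right hΦ1)
      (fun _ _ => 1) (fun a j => by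
        simp only [Fin.sum_univ_one, mul_one, ← pow_two, Subsingleton.elim a j, if_true, hsum, hd]
        rfl) ⟨ψ, hψ⟩ ⟨ψ, hψ⟩
    simp only [Fin.sum_univ_one, mul_one, contrib, hd] at h1
    rw [regSum_eq_sum, Finset.sum_congr rfl (g := fun x => ((w ψ * w ψ : ℤ) : ℂ) *
      if ¬ 2 ∣ orderOf x then Φ₀ x * conj (Φ₀ x) else 0) fun x _ => by
        by_cases hx : 2 ∣ orderOf x
        · simp [hx]
        · simp only [hx, not_false_eq_true, if_true]
          rw [hrow ψ hψ x hx, map_mul, map_intCast]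
          push_cast
          ring, ← Finset.mul_sum, ← regSum_eq_sum] at h1
    have hw0 : ((w ψ * w ψ : ℤ) : ℂ) ≠ 0 := by
      have := hwpos ψ hψ
      exact Int.cast_ne_zero.2 (mul_pos this this).ne'
    have hC : (Nat.card (CU (s : G)) : ℂ) ≠ 0 := natCard_ne_zero
    refine mul_left_cancel₀ hw0 ?_
    push_cast at h1 ⊢
    field_simp at h1 ⊢
    linear_combination h1
  -- the integral coefficients
  have hsgn : ∀ ψ : g, ∃ l : ℤ, ∀ c : CU (s : G),
      ((ψ : Cfsg.IrrCharacter (CU (s : G))) : CU (s : G) → ℂ) (sC * c) =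
        (l : ℂ) * ((ψ : Cfsg.IrrCharacter (CU (s : G))) : CU (s : G) → ℂ) c := by
    intro ψ
    have hf1 := irr_one_ne_zero (ψ : Cfsg.IrrCharacter (CU (s : G))).2
    have hv := fun c => Weight.value_mul_central (ψ : Cfsg.IrrCharacter (CU (s : G))) hsC c
    have h3 := hv sC
    rw [show sC * sC = 1 from Subtype.ext hs] at h3
    rcases mul_self_eq_one_iff.1 (show
        ((ψ : Cfsg.IrrCharacter (CU (s : G))) : CU (s : G) → ℂ) sC /
          ((ψ : Cfsg.IrrCharacter (CU (s : G))) : CU (s : G) → ℂ) 1 *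
        (((ψ : Cfsg.IrrCharacter (CU (s : G))) : CU (s : G) → ℂ) sC /
          ((ψ : Cfsg.IrrCharacter (CU (s : G))) : CU (s : G) → ℂ) 1) = 1 by
        rw [mul_div_assoc', ← h3, div_self hf1]) with h4 | h4
    · exact ⟨1, fun c => by rw [hv, h4]; simp⟩
    · exact ⟨-1, fun c => by rw [hv, h4]; simp⟩
  choose l hl using hsgn
  have hn : ∀ (χ : B) (ψ : g), ∃ z : ℤ, Cfsg.classInner
      (shiftCU ((χ : Cfsg.IrrCharacter G) : G → ℂ) (s : G))
      ((ψ : Cfsg.IrrCharacter (CU (s : G))) : CU (s : G) → ℂ) = (z : ℂ) := by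
    intro χ ψ
    obtain ⟨z, hz⟩ := classInner_gen_int
      (isGen_of_isCharacter (isCharacter_restrict (CU (s : G))
        (irr_isCharacter (χ : Cfsg.IrrCharacter G))))
      (isGen_of_isCharacter (irr_isCharacter (ψ : Cfsg.IrrCharacter (CU (s : G)))))
    refine ⟨l ψ * z, ?_⟩
    rw [Int.cast_mul, ← hz, classInner_def, classInner_def, mul_left_comm]
    congr 1
    rw [← Equiv.sum_comp (Equiv.mulLeft sC), Finset.mul_sum]
    refine Finset.sum_congr rfl fun c _ => ?_
    rw [Equiv.coe_mulLeft, hl, map_mul, map_intCast]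
    show ((χ : Cfsg.IrrCharacter G) : G → ℂ) ((s : G) * ((s : G) * (c : G))) * _ = _
    rw [← mul_assoc (s : G), hs, one_mul]
    ring
  choose n hn using hn
  set Φ : G → ℂ := fun x => if hx : x ∈ CU (s : G) then Φ₀ ⟨x, hx⟩ else 0 with hΦdef
  set τ : B → ℤ := fun χ => ∑ ψ : g, n χ ψ * w ψ with hτ
  have hth : ∀ χ : B, ∀ t ∈ regAt 2 (s : G),
      th ((χ : Cfsg.IrrCharacter G) : G → ℂ) (s : G) (eps 2 M e s) t = (τ χ : ℂ) * Φ t := by
    intro χ t ht
    obtain ⟨h1, h2⟩ := mem_regAt.1 ht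
    have htC : t ∈ CU (s : G) := mem_CU_of_commute h1
    haveI := Fintype.ofFinite (Cfsg.IrrCharacter (CU (s : G)))
    rw [he, show t = ((⟨t, htC⟩ : CU (s : G)) : G) from rfl, th_eq (irr_isClassFunction _),
      blockPart_eq_expand, Finset.sum_subtype (p := fun ψ => ψ ∈ g) _ (fun ψ => by simp)]
    simp only [hΦdef, dif_pos htC, hτ, Int.cast_sum, Finset.sum_mul]
    refine Finset.sum_congr rfl fun ψ _ => ?_
    rw [hn, hrow _ ψ.2 ⟨t, htC⟩ (by rwa [Subgroup.orderOf_mk])]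
    push_cast
    ring
  have hwgt : ∀ χ θ : B, wgt 2 M e ((χ : Cfsg.IrrCharacter G) : G → ℂ)
      ((θ : Cfsg.IrrCharacter G) : G → ℂ) s = ((τ χ * τ θ : ℤ) : ℂ) / 4 := by
    intro χ θ
    have hC : (Nat.card (CU (s : G)) : ℂ) ≠ 0 := natCard_ne_zero
    rw [wgt, pairing, Finset.sum_congr rfl (g := fun t => ((τ χ * τ θ : ℤ) : ℂ) *
      (Φ t * conj (Φ t))) fun t ht => by
        rw [hth χ t ht, hth θ t ht, map_mul, map_intCast]; push_cast; ring,
      ← Finset.mul_sum, sum_regAt,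
      show (fun c : CU (s : G) => Φ (c : G)) = Φ₀ from funext fun c => dif_pos c.2, hnorm]
    field_simp
  refine ⟨τ, Φ, ?_, hth, hwgt, ?_, fun χ h0 h' => ?_⟩
  · simp only [hΦdef, dif_pos (Subgroup.one_mem _)]
    exact hΦ1
  · have h1 := sum_pairing_block (B := B) hM (orderOf_top hM hmax s) (g := g)
      ((block_of_subpairLE hM hle).2 hmax.1)
    rw [hrk, Nat.cast_one, mul_one, Finset.sum_subtype (p := fun χ => χ ∈ B) _ (fun χ => by simp),
      Finset.sum_congr rfl (g := fun χ : B =>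
        (Nat.card (CU (s : G)) : ℂ) * (((τ χ * τ χ : ℤ) : ℂ) / 4)) fun χ _ => by
        rw [← hwgt χ χ, wgt, he, mul_div_cancel₀ _ natCard_ne_zero], ← Finset.mul_sum,
      mul_eq_left₀ natCard_ne_zero, ← Finset.sum_div, div_eq_iff (by norm_num), one_mul] at h1
    apply Int.cast_injective (α := ℂ)
    push_cast at h1 ⊢
    simp only [pow_two]
    exact h1
  · refine wgt_self_ne_zero hM hmax χ.2 h0 s ?_
    rw [hwgt, h']
    simp

end Cfsg.Agent.Blocks.Semidihedral
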