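import Mathlib
import Cfsg.Prelude.Def_CaseTheorems
import Cfsg.Agent.Lib.Blocks.Dihedral.Group
import Cfsg.Agent.Lib.Blocks.DihedralRank.Group

/-!
# Semidihedral `2`-subgroups: elements, centralisers, the quotient by the central involution
-/

set_option linter.style.haveILetI false
set_option linter.unusedSectionVars false

namespace Cfsg.Agent.Blocks.Semidihedral

universe u v

variable {G : Type u} [Group G] [Finite G]

/-- The subgroup is semidihedral of order `2 N` with `r` of order `N`. -/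
structure IsSD (D : Subgroup G) (r : D) (N : ℕ) : Prop where
  ord : orderOf r = N
  pow : ∃ j, 3 ≤ j ∧ N = 2 ^ j
  card : Nat.card D = 2 * N
  conj : ∀ w : D, w ∉ Subgroup.zpowers r → w * r * w⁻¹ = r ^ (N / 2 - 1)
  sq : ∀ w : D, w ∉ Subgroup.zpowers r → w * w = 1 ∨ w * w = r ^ (N / 2)
  split : ∃ w : D, w ∉ Subgroup.zpowers r ∧ w * w = 1

theorem exists_isSD {D : Subgroup G} {n : ℕ} (hcard : Nat.card D = 2 ^ n)
    (hsd : Cfsg.IsQuasiDihedral D) : ∃ r : D, IsSD D r (2 ^ (n - 1)) := by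
  obtain ⟨m, hm, hc, x, y, hx, hy, hyx⟩ := hsd
  have hnm : n = m + 1 := Nat.pow_right_injective le_rfl (hcard.symm.trans hc)
  subst hnm
  rw [Nat.add_sub_cancel]
  have hhalf : 2 ^ m / 2 = 2 ^ (m - 1) := by
    obtain ⟨k, rfl⟩ : ∃ k, m = k + 1 := ⟨m - 1, by omega⟩
    rw [pow_succ, Nat.mul_div_cancel _ two_pos, Nat.add_sub_cancel]
  refine ⟨x, hx, ⟨m, hm, rfl⟩, by rw [hc, pow_succ'], fun w hw => ?_, fun w hw => ?_,
    ⟨y, DihedralRank.quasi_notMem hm hc hx hy hyx, by rw [← pow_two, ← hy, pow_orderOf_eq_one]⟩⟩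
  · rw [hhalf]; exact (DihedralRank.quasi_out hm hc hx hy hyx hw).1
  · rw [hhalf]
    obtain ⟨i, hi⟩ := (DihedralRank.quasi_out hm hc hx hy hyx hw).2
    have hz := DihedralRank.quasi_pow_sq hm hc hx hy hyx
    rcases Int.even_or_odd i with ⟨k, rfl⟩ | ⟨k, rfl⟩
    · left; rw [hi, zpow_add, ← (Commute.refl _).mul_zpow, hz, one_zpow]
    · right
      rw [hi, zpow_add, zpow_one, two_mul, zpow_add, ← (Commute.refl _).mul_zpow, hz, one_zpow,
        one_mul]

namespace IsSD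

variable {D : Subgroup G} {r : D} {N : ℕ} (h : IsSD D r N)
include h

theorem eight_le : 8 ≤ N := by
  obtain ⟨j, hj, rfl⟩ := h.pow
  calc (8 : ℕ) = 2 ^ 3 := rfl
    _ ≤ 2 ^ j := Nat.pow_le_pow_right two_pos hj

/-- The order of the rotations is four times an even number. -/
theorem exists_quarter : ∃ q, Even q ∧ 2 ≤ q ∧ N = 4 * q := by
  obtain ⟨j, hj, rfl⟩ := h.pow
  obtain ⟨i, rfl⟩ : ∃ i, j = i + 3 := ⟨j - 3, by omega⟩
  refine ⟨2 * 2 ^ i, even_two_mul _, ?_, by ring⟩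
  have : 1 ≤ 2 ^ i := Nat.one_le_two_pow
  omega

theorem pow_N : r ^ N = 1 := by rw [← h.ord, pow_orderOf_eq_one]

theorem pow_eq_one {a : ℕ} : r ^ a = 1 ↔ N ∣ a := by
  rw [← orderOf_dvd_iff_pow_eq_one, h.ord]

theorem exists_pow {t : D} (ht : t ∈ Subgroup.zpowers r) : ∃ k, k < N ∧ r ^ k = t := by
  obtain ⟨k, hk⟩ := mem_powers_iff_mem_zpowers.2 ht
  exact ⟨k % N, Nat.mod_lt _ (by have := h.eight_le; omega), by
    rw [← h.ord, pow_mod_orderOf]; exact hk⟩

theorem card_R : Nat.card (Subgroup.zpowers r) = N := by rw [Nat.card_zpowers, h.ord]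

theorem index_R : (Subgroup.zpowers r).index = 2 := by
  have h1 := (Subgroup.zpowers r).index_mul_card
  rw [h.card_R, h.card] at h1
  exact Nat.eq_of_mul_eq_mul_right (by have := h.eight_le; omega) h1

theorem z_facts : (r ^ (N / 2) : D) ≠ 1 ∧ (r ^ (N / 2) : D) * r ^ (N / 2) = 1 := by
  obtain ⟨q, -, hq, hN⟩ := h.exists_quarter
  refine ⟨pow_ne_one_of_lt_orderOf (by omega) (by rw [h.ord]; omega), ?_⟩
  rw [← pow_add, show N / 2 + N / 2 = N by omega, h.pow_N]

theorem sq_eq_one {t : D} (ht : t ∈ Subgroup.zpowers r) (h2 : t * t = 1) :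
    t = 1 ∨ t = r ^ (N / 2) := by
  obtain ⟨k, hk, rfl⟩ := h.exists_pow ht
  rw [← pow_add, h.pow_eq_one] at h2
  obtain ⟨c, hc⟩ := h2
  have hc2 : c < 2 := by
    by_contra hcc
    have := Nat.mul_le_mul (le_refl N) (show 2 ≤ c by omega)
    omega
  interval_cases c
  · exact Or.inl (by rw [show k = 0 by omega, pow_zero])
  · exact Or.inr (by rw [show k = N / 2 by omega])

theorem conj_pow {w : D} (hw : w ∉ Subgroup.zpowers r) (k : ℕ) :
    w * r ^ k * w⁻¹ = r ^ ((N / 2 - 1) * k) := by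
  rw [← _root_.conj_pow, h.conj w hw, ← pow_mul]

theorem comm {t t' : D} (ht : t ∈ Subgroup.zpowers r) (ht' : t' ∈ Subgroup.zpowers r) :
    t * t' = t' * t := by
  obtain ⟨k, rfl⟩ := Subgroup.mem_zpowers_iff.1 ht
  obtain ⟨l, rfl⟩ := Subgroup.mem_zpowers_iff.1 ht'
  rw [← zpow_add, add_comm, zpow_add]

theorem mul_mem_R {w w' : D} (hw : w ∉ Subgroup.zpowers r) (hw' : w' ∉ Subgroup.zpowers r) :
    w * w' ∈ Subgroup.zpowers r := by
  rw [Subgroup.mul_mem_iff_of_index_two h.index_R]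
  exact iff_of_false hw hw'

theorem z_central (w : D) : w * r ^ (N / 2) = r ^ (N / 2) * w := by
  by_cases hw : w ∈ Subgroup.zpowers r
  · exact h.comm hw (Subgroup.npow_mem_zpowers _ _)
  obtain ⟨q, hqe, hq, hN⟩ := h.exists_quarter
  refine mul_inv_eq_iff_eq_mul.1 ?_
  rw [h.conj_pow hw, mul_comm, pow_mul,
    show N / 2 - 1 = 2 * (q - 1) + 1 by omega, pow_succ, pow_mul _ 2, pow_two,
    h.z_facts.2, one_pow, one_mul]

/-- Conjugates of a rotation. -/
theorem conj_mem {t : D} (ht : t ∈ Subgroup.zpowers r) {s : D} (hs : s ∉ Subgroup.zpowers r)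
    (w : D) : w * t * w⁻¹ = t ∨ w * t * w⁻¹ = s * t * s⁻¹ := by
  by_cases hw : w ∈ Subgroup.zpowers r
  · exact Or.inl (by rw [h.comm hw ht, mul_inv_cancel_right])
  · obtain ⟨k, -, rfl⟩ := h.exists_pow ht
    exact Or.inr (by rw [h.conj_pow hw, h.conj_pow hs])

theorem pow_two_pow (t : D) : ∃ k : ℕ, t ^ 2 ^ k = 1 := by
  obtain ⟨j, -, hj⟩ := h.pow
  refine ⟨j + 1, ?_⟩
  rw [pow_succ', ← hj, ← h.card, pow_card_eq_one']

theorem isPGroup : IsPGroup 2 D := isPGroup_iff_pow_pow_eq_one.2 h.pow_two_pow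

theorem z_mem_of_rot {t : D} (ht : t ∈ Subgroup.zpowers r) (h1 : t ≠ 1) :
    r ^ (N / 2) ∈ Subgroup.zpowers t := by
  obtain ⟨k, hk⟩ := h.pow_two_pow t
  induction k generalizing t with
  | zero => exact absurd (by simpa using hk) h1
  | succ k ih =>
    by_cases h2 : t * t = 1
    · rcases h.sq_eq_one ht h2 with e | e
      · exact absurd e h1
      · rw [← e]; exact Subgroup.mem_zpowers t
    · have h3 := ih (mul_mem ht ht) h2 (by rw [← pow_two, ← pow_mul, ← pow_succ']; exact hk)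
      exact Subgroup.zpowers_le.2 (mul_mem (Subgroup.mem_zpowers t) (Subgroup.mem_zpowers t)) h3

/-- A non-trivial element generates the central involution unless it is another involution
outside the rotations. -/
theorem short_iff {t : D} (h1 : t ≠ 1) :
    r ^ (N / 2) ∉ Subgroup.zpowers t ↔ t ∉ Subgroup.zpowers r ∧ t * t = 1 := by
  constructor
  · intro hn
    have ht : t ∉ Subgroup.zpowers r := fun ht => hn (h.z_mem_of_rot ht h1)
    refine ⟨ht, (h.sq t ht).resolve_right fun e => hn ?_⟩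
    rw [← e]
    exact mul_mem (Subgroup.mem_zpowers t) (Subgroup.mem_zpowers t)
  · rintro ⟨ht, h2⟩ hm
    obtain ⟨k, hk⟩ := Subgroup.mem_zpowers_iff.1 hm
    rcases Int.even_or_odd k with ⟨i, rfl⟩ | ⟨i, rfl⟩
    · rw [zpow_add, ← (Commute.refl t).mul_zpow, h2, one_zpow] at hk
      exact h.z_facts.1 hk.symm
    · rw [zpow_add, zpow_one, two_mul, zpow_add, ← (Commute.refl t).mul_zpow, h2, one_zpow,
        one_mul] at hk
      exact ht (hk ▸ Subgroup.npow_mem_zpowers r (N / 2))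

theorem pow_four_out {w : D} (hw : w ∉ Subgroup.zpowers r) : w ^ 4 = 1 := by
  rw [show w ^ 4 = (w * w) * (w * w) by simp [pow_succ, mul_assoc]]
  rcases h.sq w hw with e | e <;> rw [e]
  · exact one_mul 1
  · exact h.z_facts.2

theorem mem_R_of_order {v : D} (h4 : 4 < orderOf v) : v ∈ Subgroup.zpowers r := by
  by_contra hn
  have := Nat.le_of_dvd (by norm_num) (orderOf_dvd_of_pow_eq_one (h.pow_four_out hn))
  omega

/-- The involutions outside the rotations are conjugate. -/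
theorem refl_conj {s v : D} (hs : s ∉ Subgroup.zpowers r) (hs2 : s * s = 1)
    (hv : v ∉ Subgroup.zpowers r) (hv2 : v * v = 1) : ∃ d : D, v = d * s * d⁻¹ := by
  obtain ⟨q, ⟨q', rfl⟩, hq, hN⟩ := h.exists_quarter
  obtain ⟨k, -, hk⟩ := h.exists_pow (h.mul_mem_R hv hs)
  have hv' : v = r ^ k * s := by rw [hk, mul_assoc, hs2, mul_one]
  have hkeven : N ∣ k * (2 * (q' + q')) := by
    rw [← h.pow_eq_one]
    have e : r ^ k * (s * r ^ k * s⁻¹) * (s * s) = 1 := by
      rw [show r ^ k * (s * r ^ k * s⁻¹) * (s * s) = r ^ k * s * (r ^ k * s) by group, ← hv', hv2]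
    rw [hs2, mul_one, h.conj_pow hs, ← pow_add] at e
    rwa [show k + (N / 2 - 1) * k = (N / 2 - 1 + 1) * k by ring, show N / 2 - 1 + 1 = N / 2 by omega,
      show N / 2 = 2 * (q' + q') by omega, mul_comm] at e
  obtain ⟨j, rfl⟩ : ∃ j, k = 2 * j := by
    obtain ⟨c, hc⟩ := hkeven
    refine ⟨c, Nat.eq_of_mul_eq_mul_right (show 0 < 2 * (q' + q') by omega) ?_⟩
    rw [hc, hN]; ring
  obtain ⟨i, hi⟩ : ∃ i : ℕ, i = j * (1 + (q' + q')) := ⟨_, rfl⟩
  refine ⟨r ^ i, ?_⟩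
  rw [hv', show r ^ i * s * (r ^ i)⁻¹ = r ^ i * (s * r ^ i * s⁻¹)⁻¹ * s by group, h.conj_pow hs]
  congr 1
  rw [eq_mul_inv_iff_mul_eq, ← pow_add, pow_inj_mod, h.ord]
  refine Nat.ModEq.symm (Nat.modEq_iff_dvd.2 ⟨(j : ℤ) * q', ?_⟩)
  have hh : ((N / 2 - 1 : ℕ) : ℤ) = 4 * q' - 1 := by omega
  push_cast [hh, hi]
  rw [hN]
  push_cast
  ring

/-- What commutes with an involution outside the rotations. -/
theorem cent_refl {s u : D} (hs : s ∉ Subgroup.zpowers r) (hs2 : s * s = 1)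
    (hu : u * s = s * u) :
    u = 1 ∨ u = r ^ (N / 2) ∨ u = s ∨ u = r ^ (N / 2) * s := by
  have key : ∀ u ∈ Subgroup.zpowers r, u * s = s * u → u = 1 ∨ u = r ^ (N / 2) := by
    intro u hu e
    obtain ⟨k, -, rfl⟩ := h.exists_pow hu
    obtain ⟨q, ⟨q', rfl⟩, hq, hN⟩ := h.exists_quarter
    refine h.sq_eq_one hu ?_
    have e1 : r ^ ((N / 2 - 1) * k) = r ^ k := by
      rw [← h.conj_pow hs, ← e, mul_inv_cancel_right]
    rw [pow_inj_mod, h.ord] at e1
    have e2 := Nat.modEq_iff_dvd.1 (show (N / 2 - 1) * k ≡ k [MOD N] from e1)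
    rw [← pow_add, h.pow_eq_one]
    obtain ⟨c, hc⟩ := e2
    have hh : ((N / 2 - 1 : ℕ) : ℤ) = 4 * q' - 1 := by omega
    push_cast [hh] at hc
    rw [hN] at hc
    push_cast at hc
    -- `2 q' - 1` is odd, so it can be cancelled modulo a power of two
    have hdvd : (N : ℤ) ∣ ((k + k : ℕ) : ℤ) * ((2 * q' : ℤ) - 1) := ⟨-c, by
      push_cast [hN]; linear_combination -hc⟩
    obtain ⟨j, -, hj⟩ := h.pow
    have hco : IsCoprime ((N : ℕ) : ℤ) ((2 * q' : ℤ) - 1) := by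
      rw [hj, Nat.cast_pow, Nat.cast_ofNat]
      exact IsCoprime.pow_left ⟨(q' : ℤ), -1, by ring⟩
    exact Int.natCast_dvd_natCast.1 (hco.dvd_of_dvd_mul_right hdvd)
  by_cases hR : u ∈ Subgroup.zpowers r
  · rcases key u hR hu with e | e
    exacts [Or.inl e, Or.inr (Or.inl e)]
  · rcases key (u * s) (h.mul_mem_R hR hs)
      (by rw [mul_assoc, hs2, mul_one, ← mul_assoc, ← hu, mul_assoc, hs2, mul_one]) with e | e
    · refine Or.inr (Or.inr (Or.inl ?_))
      rw [← mul_one u, ← hs2, ← mul_assoc, e, one_mul]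
    · refine Or.inr (Or.inr (Or.inr ?_))
      rw [← e, mul_assoc, hs2, mul_one]

/-- The structure moves along isomorphisms. -/
theorem map_equiv {K : Type*} [Group K] [Finite K] {E : Subgroup K} (φ : D ≃* E) :
    IsSD E (φ r) N := by
  have hmem : ∀ d : D, φ d ∈ Subgroup.zpowers (φ r) ↔ d ∈ Subgroup.zpowers r := fun d => by
    simp only [Subgroup.mem_zpowers_iff, ← map_zpow, φ.injective.eq_iff]
  refine ⟨by rw [φ.orderOf_eq, h.ord], h.pow, by rw [← Nat.card_congr φ.toEquiv, h.card],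
    fun w hw => ?_, fun w hw => ?_, ?_⟩
  · obtain ⟨d, rfl⟩ := φ.surjective w
    rw [hmem] at hw
    rw [← map_inv, ← map_mul, ← map_mul, h.conj d hw, map_pow]
  · obtain ⟨d, rfl⟩ := φ.surjective w
    rw [hmem] at hw
    rw [← map_mul, ← map_pow, φ.map_eq_one_iff, φ.injective.eq_iff]
    exact h.sq d hw
  · obtain ⟨w, hw, hw2⟩ := h.split
    exact ⟨φ w, fun hm => hw ((hmem w).1 hm), by rw [← map_mul, hw2, map_one]⟩

theorem isQuasiDihedral : Cfsg.IsQuasiDihedral D := by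
  obtain ⟨j, hj, hN⟩ := h.pow
  obtain ⟨w, hw, hw2⟩ := h.split
  refine ⟨j, hj, by rw [h.card, hN, pow_succ'], r, w, by rw [h.ord, hN], ?_, ?_⟩
  · exact orderOf_eq_prime (p := 2) (by rw [pow_two, hw2]) fun e => hw (e ▸ Subgroup.one_mem _)
  · rw [h.conj w hw, hN]
    congr 2
    obtain ⟨i, rfl⟩ : ∃ i, j = i + 1 := ⟨j - 1, by omega⟩
    rw [pow_succ, Nat.mul_div_cancel _ two_pos, Nat.add_sub_cancel]

/-- The image under a map killing exactly the central involution is dihedral. -/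
theorem map_isDih {K : Type v} [Group K] [Finite K] (f : G →* K)
    (hf : ∀ d : D, f d = 1 ↔ d = 1 ∨ d = r ^ (N / 2)) :
    Dihedral.IsDih (D.map f) ⟨f r, Subgroup.mem_map_of_mem f r.2⟩ (N / 2) := by
  set g : D →* D.map f := f.subgroupMap D
  have hgs : Function.Surjective g := f.subgroupMap_surjective D
  have hker : ∀ d : D, g d = 1 ↔ d = 1 ∨ d = r ^ (N / 2) := fun d => by
    rw [← hf d, Subtype.ext_iff]; rfl
  have hgr : (⟨f r, Subgroup.mem_map_of_mem f r.2⟩ : D.map f) = g r := rfl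
  rw [hgr]
  obtain ⟨q, hqe, hq, hN4⟩ := h.exists_quarter
  have hout : ∀ w : D.map f, w ∉ Subgroup.zpowers (g r) →
      ∃ d : D, d ∉ Subgroup.zpowers r ∧ g d = w := by
    intro w hw
    obtain ⟨d, rfl⟩ := hgs w
    refine ⟨d, fun hd => hw ?_, rfl⟩
    obtain ⟨i, rfl⟩ := Subgroup.mem_zpowers_iff.1 hd
    exact ⟨i, (map_zpow g r i).symm⟩
  obtain ⟨j, hj, hjN⟩ := h.pow
  refine ⟨?_, ⟨j - 1, by omega, ?_⟩, ?_, fun w hw => ?_, fun w hw => ?_⟩
  · refine Nat.dvd_antisymm (orderOf_dvd_of_pow_eq_one ?_) ?_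
    · rw [← map_pow]; exact (hker _).2 (Or.inr rfl)
    have h1 := pow_orderOf_eq_one (g r)
    rw [← map_pow, hker] at h1
    rcases h1 with e | e
    · exact (Nat.div_dvd_of_dvd ⟨2 * q, by omega⟩).trans (h.pow_eq_one.1 e)
    · have e2 : r ^ (2 * orderOf (g r)) = 1 := by
        rw [mul_comm, pow_mul, e, pow_two, h.z_facts.2]
      have e3 := h.pow_eq_one.1 e2
      rw [show N = 2 * (N / 2) by omega] at e3
      exact Nat.dvd_of_mul_dvd_mul_left two_pos e3
  · rw [hjN, ← Nat.pow_div (by omega) two_pos, pow_one]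
  · have h2 : Nat.card g.ker = 2 := by
      have hset : (g.ker : Set D) = {1, r ^ (N / 2)} := Set.ext fun d => by
        simp [MonoidHom.mem_ker, hker d]
      rw [← SetLike.coe_sort_coe, Nat.card_coe_set_eq, hset,
        Set.ncard_pair h.z_facts.1.symm]
    have h3 := Subgroup.card_eq_card_quotient_mul_card_subgroup g.ker
    rw [h.card, h2, Nat.card_congr (QuotientGroup.quotientKerEquivOfSurjective g hgs).toEquiv] at h3
    omega
  all_goals obtain ⟨d, hd, rfl⟩ := hout w hw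
  · rw [← map_mul, hker]
    exact h.sq d hd
  · rw [← map_inv, ← map_mul, ← map_mul, h.conj d hd, ← mul_inv_eq_one, inv_inv, map_pow,
      ← pow_succ, Nat.sub_add_cancel (by omega), ← map_pow]
    exact (hker _).2 (Or.inr rfl)

end IsSD

end Cfsg.Agent.Blocks.Semidihedral
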