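import Mathlib
import Cfsg.Agent.Lib.Blocks.Semidihedral.Group
import Cfsg.Agent.Lib.Blocks.Quaternion.Descent

/-!
# Fusion of rotations in a semidihedral top
-/

set_option linter.style.haveILetI false
set_option linter.unusedSectionVars false

namespace Cfsg.Agent.Blocks.Semidihedral

open Cfsg.Agent.Blocks Cfsg.Agent.Characters Cfsg.Agent.Blocks.Star
open Cfsg.Agent.Blocks.CentralStep Cfsg.Agent.Blocks.Quaternion
open Cfsg.Agent.BlockCharsA Cfsg.Agent.BlockCharsA.BrauerPairs Cfsg.Agent.BlockCharsA.PairConj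
open Cfsg.Agent.BlockCharsA.PairReceptive Cfsg.Agent.BlockCharsA.PairFusion
open Cfsg.Agent.BlockCharsA.PairLocal
open MonoidAlgebra

universe u

variable {G : Type u} [Group G] [Finite G] {M : Ideal Cfsg.AlgInt}
  {B : Set (Cfsg.IrrCharacter G)}

namespace IsSD

variable {D : Subgroup G} {r : D} {N : ℕ} (h : IsSD D r N)
include h

theorem orderOf_ne_three (v : D) : orderOf v ≠ 3 := fun e => by
  obtain ⟨k, hk⟩ := h.pow_two_pow v
  have h3 := orderOf_dvd_of_pow_eq_one hk
  rw [e] at h3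
  exact absurd ((Nat.prime_dvd_prime_iff_eq Nat.prime_three Nat.prime_two).1
    (Nat.prime_three.dvd_of_dvd_pow h3)) (by norm_num)

/-- Rotations of order at most four are inverted. -/
theorem conj_small {v : D} (hv : v ∈ Subgroup.zpowers r) (h4 : orderOf v ≤ 4) {s : D}
    (hs : s ∉ Subgroup.zpowers r) : s * v * s⁻¹ = v⁻¹ := by
  obtain ⟨k, -, rfl⟩ := h.exists_pow hv
  obtain ⟨q, ⟨q', rfl⟩, hq, hN⟩ := h.exists_quarter
  have hd : orderOf (r ^ k) ∣ 4 := by
    obtain ⟨i, hi⟩ := h.pow_two_pow (r ^ k)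
    obtain ⟨j, -, hj⟩ := (Nat.dvd_prime_pow Nat.prime_two).1 (orderOf_dvd_of_pow_eq_one hi)
    rw [hj] at h4 ⊢
    exact pow_dvd_pow 2 (Nat.le_of_lt_succ ((Nat.pow_lt_pow_iff_right (by norm_num)).1
      (h4.trans_lt (by norm_num : (4 : ℕ) < 2 ^ 3))))
  have hk := h.pow_eq_one.1 (show r ^ (k * 4) = 1 by
    rw [pow_mul]; exact orderOf_dvd_iff_pow_eq_one.1 hd)
  obtain ⟨c, hc⟩ := hk
  rw [h.conj_pow hs, eq_inv_iff_mul_eq_one, ← pow_add, h.pow_eq_one]
  refine ⟨c * q', ?_⟩
  have e : (N / 2 - 1) * k + k = N / 2 * k := by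
    rw [← Nat.succ_mul, Nat.succ_eq_add_one, Nat.sub_add_cancel (by omega)]
  rw [e, show N / 2 = 4 * q' by omega, mul_comm (4 : ℕ), mul_assoc, mul_comm 4 k, hc, hN]
  ring

/-- Rotations of the same order generate the same group. -/
theorem zpowers_eq {v w : D} (hv : v ∈ Subgroup.zpowers r) (hw : w ∈ Subgroup.zpowers r)
    (ho : orderOf v = orderOf w) : Subgroup.zpowers v = Subgroup.zpowers w := by
  have key : ∀ k : ℕ, Subgroup.zpowers (r ^ k) = Subgroup.zpowers (r ^ N.gcd k) := by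
    intro k
    refine le_antisymm (Subgroup.zpowers_le.2 ?_) (Subgroup.zpowers_le.2 ?_)
    · obtain ⟨c, hc⟩ := Nat.gcd_dvd_right N k
      rw [show r ^ k = (r ^ N.gcd k) ^ c by rw [← pow_mul, ← hc]]
      exact Subgroup.npow_mem_zpowers _ _
    · refine Subgroup.mem_zpowers_iff.2 ⟨Nat.gcdB N k, ?_⟩
      have hN : r ^ (N : ℤ) = 1 := by rw [zpow_natCast, ← h.ord, pow_orderOf_eq_one]
      rw [← zpow_natCast r (N.gcd k), Nat.gcd_eq_gcd_ab, zpow_add, zpow_mul, hN, one_zpow,
        one_mul, zpow_mul, zpow_natCast]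
  obtain ⟨i, rfl⟩ := mem_powers_iff_mem_zpowers.2 hv
  obtain ⟨j, rfl⟩ := mem_powers_iff_mem_zpowers.2 hw
  rw [orderOf_pow, orderOf_pow, h.ord] at ho
  have hN : N ≠ 0 := by have := h.eight_le; omega
  have e := congrArg (fun t => N / t) ho
  simp only [Nat.div_div_self (Nat.gcd_dvd_left N i) hN,
    Nat.div_div_self (Nat.gcd_dvd_left N j) hN] at e
  show Subgroup.zpowers (r ^ i) = Subgroup.zpowers (r ^ j)
  rw [key i, key j, e]

/-- Fused rotations are equal or exchanged by the reflections. -/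
theorem fused_rot (hM : Cfsg.IsPModular 2 M) {e : Set (Cfsg.IrrCharacter (Subgroup.centralizer
    (D : Set G)))} (hmax : Cfsg.IsMaximalBrauerPair 2 M B D e) {v w : D}
    (hv : v ∈ Subgroup.zpowers r) (hw : w ∈ Subgroup.zpowers r) (hf : Fused 2 M e v w) :
    ∀ {s : D}, s ∉ Subgroup.zpowers r → s * s = 1 → w = v ∨ w = s * v * s⁻¹ := by
  intro s hs hs2
  classical
  haveI := fact_prime_of_pm hM
  obtain ⟨x, hx, hε⟩ := hf
  have ho : orderOf v = orderOf w := by
    rw [← Subgroup.orderOf_coe v, ← Subgroup.orderOf_coe w, hx]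
    exact (MulEquiv.orderOf_eq (MulAut.conj x) (v : G)).symm
  have hz := h.zpowers_eq hv hw ho
  have hwv : w ∈ Subgroup.zpowers v := hz ▸ Subgroup.mem_zpowers w
  by_cases h4 : orderOf v ≤ 4
  · obtain ⟨k, rfl⟩ := mem_powers_iff_mem_zpowers.2 hwv
    have hk : (fun t => v ^ t) k = v ^ (k % orderOf v) := (pow_mod_orderOf v k).symm
    simp only at hk ho ⊢
    rw [hk] at ho ⊢
    have hlt := Nat.mod_lt k (orderOf_pos v)
    have hpos := orderOf_pos v
    set j := k % orderOf v
    rcases (show j = 0 ∨ j = 1 ∨ j = 2 ∨ j = 3 by omega) with e | e | e | e <;> rw [e] at ho hlt ⊢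
    · rw [pow_zero, orderOf_one] at ho
      rw [pow_zero, show v = 1 from orderOf_eq_one_iff.1 ho]
      exact Or.inl rfl
    · exact Or.inl (pow_one v)
    · rw [orderOf_pow] at ho
      rcases (show orderOf v = 3 ∨ orderOf v = 4 by omega) with e' | e'
      · exact absurd e' (h.orderOf_ne_three v)
      · rw [e'] at ho; norm_num at ho
    · refine Or.inr ?_
      rw [h.conj_small hv (by omega) hs]
      refine eq_inv_of_mul_eq_one_left ?_
      rw [← pow_succ, show (3 + 1 : ℕ) = orderOf v by omega, pow_orderOf_eq_one]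
  set R₀ := Subgroup.zpowers (v : G) with hR₀
  have hRw : Subgroup.zpowers (w : G) = R₀ := by
    have e := congrArg (Subgroup.map D.subtype) hz
    rw [MonoidHom.map_zpowers, MonoidHom.map_zpowers] at e
    exact e.symm
  obtain ⟨g, hg, -, heg⟩ := eps_spec hM hmax v
  have hgw : eps 2 M e w = elF (Subgroup.centralizer (R₀ : Set G)) g :=
    eps_of_le hM hmax w hRw.symm hg
  have hst : x ∈ stab R₀ g := by
    refine mem_stab_iff.2 (idx_ext ((cj_zpowers x _).trans ((congrArg Subgroup.zpowers hx.symm).trans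
      hRw)) fun y => ?_)
    simp only [cjPair]
    rw [coeff_conjBlock', ← coeff_cjE, ← heg, hε, hgw, heg]
  set S := blockSystem hM hmax
  have hS := isBlockFusion_blockSystem hM hmax
  have hα : autHom R₀ g ⟨x, hst⟩ ∈ S.autGroup R₀ := by
    rw [autGroup_eq hM hS hg]
    exact ⟨_, rfl⟩
  have hRP : R₀ ≤ D := Subgroup.zpowers_le.2 v.2
  obtain ⟨Q, ⟨φ, hφ, hQ⟩, hfull, -⟩ := isSaturated hM hS R₀ hRP
  -- the subgroup is the only one of its kind
  have hQR : Q = R₀ := by
    set vv : R₀ := ⟨(v : G), Subgroup.mem_zpowers _⟩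
    have hgen : Subgroup.zpowers vv = ⊤ := by
      refine (Subgroup.eq_top_iff' _).2 fun y => ?_
      obtain ⟨i, hi⟩ := Subgroup.mem_zpowers_iff.1 y.2
      exact Subgroup.mem_zpowers_iff.2 ⟨i, Subtype.ext (by simpa using hi)⟩
    set u : D := ⟨φ vv, (S.le_of_mem hφ).2 vv⟩
    have hou : orderOf u = orderOf v := by
      rw [← Subgroup.orderOf_coe u, show (u : G) = φ vv from rfl,
        orderOf_injective φ (S.injective_of_mem hφ), ← Subgroup.orderOf_coe vv,
        ← Subgroup.orderOf_coe v]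
    have hu := h.zpowers_eq (h.mem_R_of_order (v := u) (by omega)) hv hou
    have e := congrArg (Subgroup.map D.subtype) hu
    rw [MonoidHom.map_zpowers, MonoidHom.map_zpowers] at e
    rw [← hQ, MonoidHom.range_eq_map, ← hgen, MonoidHom.map_zpowers]
    exact e
  rw [hQR] at hfull
  obtain ⟨-, T, hT⟩ := hfull
  -- the automorphisms form a 2-group
  haveI : IsCyclic R₀ := Subgroup.isCyclic_zpowers _
  have hA : IsPGroup 2 (MulAut R₀) := by
    obtain ⟨j, -, hj⟩ := h.pow
    have hd : orderOf (v : G) ∣ 2 ^ (j + 1) := by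
      rw [Subgroup.orderOf_coe, pow_succ', ← hj, ← h.card]
      exact orderOf_dvd_natCard v
    obtain ⟨i, -, hi⟩ := (Nat.dvd_prime_pow Nat.prime_two).1 hd
    refine IsPGroup.of_card (n := i - 1) ?_
    rw [IsCyclic.card_mulAut, Nat.card_zpowers, hi, Nat.totient_prime_pow Nat.prime_two]
    · simp
    · rcases i with _ | i
      · rw [pow_zero, Subgroup.orderOf_coe] at hi; omega
      · omega
  have htop : (T : Subgroup (S.autGroup R₀)) = ⊤ := by
    refine (T.3 (hA.to_subgroup _ |>.to_subgroup ⊤) le_top).symm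
  have hind : autHom R₀ g ⟨x, hst⟩ ∈ Cfsg.autInducedBy D R₀ := by
    have : (⟨_, hα⟩ : S.autGroup R₀) ∈ (T : Subgroup (S.autGroup R₀)) := htop ▸ trivial
    rw [hT] at this
    exact this
  -- conjugation by the top fixes or exchanges
  obtain ⟨k, -, hkv⟩ := h.exists_pow hv
  set n := N / 2 - 1
  have hsv : s * v * s⁻¹ = v ^ n := by rw [← hkv, h.conj_pow hs, ← pow_mul, mul_comm k]
  have hnn : v ^ (n * n) = v := by
    have e2 : s * (s * v * s⁻¹) * s⁻¹ = v := by
      rw [show s * (s * v * s⁻¹) * s⁻¹ = s * s * v * (s * s)⁻¹ by group, hs2, inv_one, one_mul,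
        mul_one]
    rw [hsv, ← _root_.conj_pow, hsv, ← pow_mul] at e2
    exact e2
  set v₀ : R₀ := ⟨(v : G), Subgroup.mem_zpowers _⟩ with hv₀
  have hnn₀ : v₀ ^ (n * n) = v₀ := Subtype.ext (by
    rw [Subgroup.coe_pow]; exact congrArg Subtype.val hnn)
  have hprop : ∀ α ∈ Cfsg.autInducedBy D R₀, α v₀ = v₀ ∨ α v₀ = v₀ ^ n := by
    intro α hα'
    induction hα' using Subgroup.closure_induction with
    | mem α hα' =>
      obtain ⟨d, hd, hαd⟩ := hα'
      rcases h.conj_mem hv hs ⟨d, hd⟩ with e | e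
      · refine Or.inl (Subtype.ext ?_)
        rw [hαd]
        exact congrArg Subtype.val e
      · refine Or.inr (Subtype.ext ?_)
        rw [hαd, Subgroup.coe_pow]
        exact congrArg Subtype.val (e.trans hsv)
    | one => exact Or.inl rfl
    | mul α β _ _ ha hb =>
      simp only [MulAut.mul_apply]
      rcases hb with e | e <;> rw [e]
      · exact ha
      · rcases ha with e' | e' <;> rw [map_pow, e']
        · exact Or.inr rfl
        · exact Or.inl (by rw [← pow_mul, hnn₀])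
    | inv α _ ha =>
      rcases ha with e | e
      · refine Or.inl ?_
        conv_lhs => rw [← e]
        rw [← MulAut.mul_apply, inv_mul_cancel, MulAut.one_apply]
      · refine Or.inr ?_
        have e2 : α (v₀ ^ n) = v₀ := by rw [map_pow, e, ← pow_mul, hnn₀]
        conv_lhs => rw [← e2]
        rw [← MulAut.mul_apply, inv_mul_cancel, MulAut.one_apply]
  rcases hprop _ hind with e | e
  · refine Or.inl (Subtype.ext ?_)
    rw [Subtype.ext_iff, coe_autHom] at e
    rw [hx]; exact e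
  · refine Or.inr (Subtype.ext ?_)
    rw [Subtype.ext_iff, coe_autHom, Subgroup.coe_pow] at e
    rw [hx, hsv, Subgroup.coe_pow]; exact e

end IsSD

end Cfsg.Agent.Blocks.Semidihedral
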