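import Mathlib
import Cfsg.Agent.Lib.Blocks.Quaternion.Transfer

/-!
# Combinations of a block without part at a pair
-/

set_option linter.style.haveILetI false
set_option linter.unusedSectionVars false

namespace Cfsg.Agent.Blocks.Semidihedral

open Cfsg.Agent.Blocks Cfsg.Agent.Characters Cfsg.Agent.Blocks.Star
open Cfsg.Agent.Blocks.CentralStep Cfsg.Agent.Blocks.Quaternion
open Cfsg.Agent.BlockCharsA Cfsg.Agent.BlockCharsA.BrauerPairs Cfsg.Agent.BlockCharsA.PairConj
open MonoidAlgebra
open scoped ComplexConjugate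

universe u

variable {G : Type u} [Group G] [Finite G] {p : ℕ} {M : Ideal Cfsg.AlgInt}
  {B : Set (Cfsg.IrrCharacter G)} {P : Subgroup G}
  {e : Set (Cfsg.IrrCharacter (Subgroup.centralizer (P : Set G)))}

theorem conj_wgt (f f' : G → ℂ) (v : P) : conj (wgt p M e f f' v) = wgt p M e f' f v := by
  simp only [wgt, pairing, map_div₀, map_sum, map_mul, Complex.conj_conj, Complex.conj_natCast]
  congr 1
  exact Finset.sum_congr rfl fun s _ => mul_comm _ _

open scoped Classical in
/-- The weights at a pair are those of a projection. -/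
theorem wgt_mul_wgt (hM : Cfsg.IsPModular p M) (hmax : Cfsg.IsMaximalBrauerPair p M B P e)
    [Fintype B] {f f' : G → ℂ} (hf : Cfsg.IsClassFunction G f) (hf' : Cfsg.IsClassFunction G f')
    (v w : P) :
    ∑ χ : B, wgt p M e f ((χ : Cfsg.IrrCharacter G) : G → ℂ) v *
        wgt p M e ((χ : Cfsg.IrrCharacter G) : G → ℂ) f' w =
      if Fused p M e v w then wgt p M e f f' v else 0 := by
  haveI := Fintype.ofFinite G
  haveI := Fintype.ofFinite (Cfsg.IrrCharacter G)
  rw [← column_orth hM hmax hf hf' v w,
    Finset.sum_subtype (p := fun χ => χ ∈ B) _ (fun χ => by simp)]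
  exact Finset.sum_congr rfl fun χ _ => by rw [conj_wgt]

/-- Fused pairs have the same weights. -/
theorem wgt_fused {v w : P} (h : Fused p M e v w) {f f' : G → ℂ} (hf : Cfsg.IsClassFunction G f)
    (hf' : Cfsg.IsClassFunction G f') : wgt p M e f f' w = wgt p M e f f' v := by
  haveI := Fintype.ofFinite G
  obtain ⟨x, hx, hε⟩ := h
  have hcard : Nat.card (CU (x * (v : G) * x⁻¹)) = Nat.card (CU (v : G)) := by
    refine Nat.card_congr ((MulAut.conj x).toEquiv.subtypeEquiv fun c => ?_).symm
    constructor
    · intro hc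
      exact mem_CU_of_commute ((commute_of_mem_CU hc).map (MulAut.conj x).toMonoidHom)
    · intro hc
      have := (commute_of_mem_CU hc).map (MulAut.conj x⁻¹).toMonoidHom
      refine mem_CU_of_commute ?_
      simpa [mul_assoc] using this
  rw [wgt, wgt, ← hε, hx, pairing_conj hf hf', hcard]

variable (p M e) in
/-- The combination has no part at the pair. -/
def Perp (B : Set (Cfsg.IrrCharacter G)) [Fintype B] (f : B → ℂ) (v : P) : Prop :=
  ∀ η : B, ∑ χ : B, f χ *
    wgt p M e ((χ : Cfsg.IrrCharacter G) : G → ℂ) ((η : Cfsg.IrrCharacter G) : G → ℂ) v = 0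

variable [Fintype B] {f : B → ℂ}

theorem Perp.fused {v w : P} (h : Perp p M e B f v) (hvw : Fused p M e v w) :
    Perp p M e B f w := fun η => by
  rw [← h η]
  exact Finset.sum_congr rfl fun χ _ => by
    rw [wgt_fused hvw (irr_isClassFunction _) (irr_isClassFunction _)]

theorem perp_iff_th {v : P} : Perp p M e B f v ↔
    ∀ s ∈ regAt p (v : G), th (expand B f) (v : G) (eps p M e v) s = 0 := by
  classical
  haveI := Fintype.ofFinite G
  have hth : ∀ s, th (expand B f) (v : G) (eps p M e v) s =
      ∑ χ : B, f χ * th ((χ : Cfsg.IrrCharacter G) : G → ℂ) (v : G) (eps p M e v) s := fun s => by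
    rw [← th_linear]
    rfl
  have hC : (Nat.card (CU (v : G)) : ℂ) ≠ 0 := natCard_ne_zero
  have hpair : ∀ η : B, (Nat.card (CU (v : G)) : ℂ) * ∑ χ : B, f χ *
      wgt p M e ((χ : Cfsg.IrrCharacter G) : G → ℂ) ((η : Cfsg.IrrCharacter G) : G → ℂ) v =
      pairing p (expand B f) ((η : Cfsg.IrrCharacter G) : G → ℂ) (v : G) (eps p M e v) := by
    intro η
    simp only [pairing, hth, Finset.sum_mul, wgt, Finset.mul_sum]
    rw [Finset.sum_comm]
    refine Finset.sum_congr rfl fun χ _ => ?_
    field_simp
    rw [Finset.mul_sum]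
    exact Finset.sum_congr rfl fun s _ => by ring
  constructor
  · intro h s hs
    have h0 : pairing p (expand B f) (expand B f) (v : G) (eps p M e v) = 0 := by
      have e1 : pairing p (expand B f) (expand B f) (v : G) (eps p M e v) = ∑ η : B, conj (f η) *
          pairing p (expand B f) ((η : Cfsg.IrrCharacter G) : G → ℂ) (v : G) (eps p M e v) := by
        simp only [pairing, Finset.mul_sum]
        rw [Finset.sum_comm]
        refine Finset.sum_congr rfl fun s _ => ?_
        conv_lhs => arg 2; rw [hth, map_sum]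
        rw [Finset.mul_sum]
        exact Finset.sum_congr rfl fun η _ => by rw [map_mul]; ring
      rw [e1]
      exact Finset.sum_eq_zero fun η _ => by rw [← hpair η, h η, mul_zero, mul_zero]
    rw [pairing_self, Complex.ofReal_eq_zero] at h0
    have := (Finset.sum_eq_zero_iff_of_nonneg fun _ _ => sq_nonneg _).1 h0 s hs
    exact norm_eq_zero.1 (pow_eq_zero_iff two_ne_zero |>.1 this)
  · intro h η
    refine (mul_eq_zero.1 ?_).resolve_left hC
    rw [hpair η, pairing]
    exact Finset.sum_eq_zero fun s hs => by rw [h s hs, zero_mul]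

omit [Fintype B] in
/-- A part only sees the values on its section. -/
theorem th_eq_zero_of_section (hM : Cfsg.IsPModular p M)
    (hmax : Cfsg.IsMaximalBrauerPair p M B P e) {F : G → ℂ} (hF : Cfsg.IsClassFunction G F)
    (v : P) (h : ∀ c ∈ regAt p (v : G), F ((v : G) * c) = 0) {s : G} (hs : s ∈ regAt p (v : G)) :
    th F (v : G) (eps p M e v) s = 0 := by
  haveI := Fintype.ofFinite G
  obtain ⟨g, -, hg, he⟩ := eps_spec hM hmax v
  obtain ⟨h1, h2⟩ := mem_regAt.1 hs
  rw [he, show s = ((⟨s, mem_CU_of_commute h1⟩ : CU (v : G)) : G) from rfl, th_eq hF,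
    blockPart_congr_reg hM hg (F' := fun _ => 0) (fun c hc => ?_)
      (by rwa [Subgroup.orderOf_mk])]
  · haveI := Fintype.ofFinite (CU (v : G))
    rw [blockPart_eq_kernel]
    exact Finset.sum_eq_zero fun _ _ => mul_zero _
  · exact h _ (mem_regAt.2 ⟨commute_of_mem_CU c.2, by rwa [Subgroup.orderOf_coe]⟩)

end Cfsg.Agent.Blocks.Semidihedral
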