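import Mathlib
import Cfsg.Agent.Lib.Blocks.Quaternion.Rows
import Cfsg.Agent.Lib.Blocks.Semidihedral.Weights

/-!
# Normalising a row model against the column at an involution outside the rotations

The four members of height zero carry the signs `+ - + -` on `a b u v`; the columns orthogonal
to them are those through `a b x`, `a b u v` and `b u k`.
-/

set_option linter.style.haveILetI false
set_option linter.unusedSectionVars false

namespace Cfsg.Agent.Blocks.Semidihedral

open Cfsg.Agent.Blocks Cfsg.Agent.Characters Cfsg.Agent.Blocks.Star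
open Cfsg.Agent.Blocks.CentralStep Cfsg.Agent.Blocks.Quaternion

universe u

variable {G : Type u} [Group G] [Finite G]

/-- The indices of the columns. -/
abbrev Sel₁ (M : ℕ) := Fin M ⊕ Unit ⊕ Unit

/-- The columns among those of the quaternion model. -/
def emb {M : ℕ} : Sel₁ M → Sel M
  | Sum.inl i => Sel.V i
  | Sum.inr (Sum.inl _) => Sel.C
  | Sum.inr (Sum.inr _) => Sel.H true

/-- The products of the columns. -/
def gramA (M g : ℕ) (i j : Sel₁ M) : ℤ :=
  ∑ q : Pos M 0 g, col (emb i) q * col (emb j) q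

variable {M : Ideal Cfsg.AlgInt} {P : Subgroup G}

/-- Combinations vanishing on the regular elements and without part at the short elements not
fused to the central one. -/
def Good (M : Ideal Cfsg.AlgInt)
    (e : Set (Cfsg.IrrCharacter (Subgroup.centralizer (P : Set G)))) (z : P)
    (B : Set (Cfsg.IrrCharacter G)) [Fintype B] (f : B → ℂ) : Prop :=
  IsKer 2 B f ∧
    ∀ v : P, v ≠ 1 → z ∉ Subgroup.zpowers v → ¬ Fused 2 M e v z → Perp 2 M e B f v

/-- Integral combinations spanning the good ones, with the products of the columns. -/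
structure IsColsOn (M : Ideal Cfsg.AlgInt)
    (e : Set (Cfsg.IrrCharacter (Subgroup.centralizer (P : Set G)))) (z : P)
    (B : Set (Cfsg.IrrCharacter G)) [Fintype B] {ι : Type*} [Fintype ι] (A : ι → ι → ℤ)
    (c : ι → B → ℤ) : Prop where
  good : ∀ i, Good M e z B fun χ => (c i χ : ℂ)
  gram : ∀ i j, ∑ χ : B, c i χ * c j χ = A i j
  span : ∀ f : B → ℂ, Good M e z B f → ∃ α : ι → ℂ, ∀ χ, f χ = ∑ i, α i * (c i χ : ℂ)

variable {p : ℕ} {B : Set (Cfsg.IrrCharacter G)} {N g l : ℕ}

/-- The signs at the involution outside the rotations. -/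
def pvec {N g : ℕ} : Pos N 0 g → ℤ
  | .a => 1
  | .b => -1
  | .u => 1
  | .v => -1
  | _ => 0

/-- Renaming the positions. -/
def reindex (R : RowModel p B N 0 g l) (π : Pos N 0 g ≃ Pos N 0 g) (ε : Pos N 0 g → ℤ)
    (hε : ∀ q, ε q = 1 ∨ ε q = -1) (hrow : ∀ q i, ε q * row l (π q) i = row l q i) :
    RowModel p B N 0 g l where
  ρ := π.trans R.ρ
  σ q := ε q * R.σ (π q)
  unit q := by rcases hε q with e | e <;> rcases R.unit (π q) with e' | e' <;> simp [e, e']
  Φ := R.Φ
  hrow q s hs := by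
    rw [Equiv.trans_apply, Int.cast_mul, mul_assoc, R.hrow (π q) s hs, Finset.mul_sum]
    exact Finset.sum_congr rfl fun i _ => by rw [← mul_assoc, ← Int.cast_mul, hrow q i]
  indep := R.indep

/-- Some renaming brings the signs to `+ - + -`. -/
theorem exists_normal (hl : l = 1 ∧ g = 0 ∨ l = 2 ∧ g = 1) (R : RowModel p B N 0 g l)
    (τ : B → ℤ) (h4 : ∀ q, q = .a ∨ q = .b ∨ q = .u ∨ q = .v → τ (R.ρ q) = 1 ∨ τ (R.ρ q) = -1)
    (h0 : ∀ i, τ (R.ρ (.x i)) = 0) (h0k : ∀ i, τ (R.ρ (.k i)) = 0)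
    (horth : ∀ i, ∑ q, R.σ q * τ (R.ρ q) * row l q i = 0) :
    ∃ (R' : RowModel p B N 0 g l) (c : ℤ), (c = 1 ∨ c = -1) ∧
      ∀ q, R'.σ q * τ (R'.ρ q) = c * pvec q := by
  classical
  set w : Pos N 0 g → ℤ := fun q => R.σ q * τ (R.ρ q) with hw
  have hw4 : ∀ q, q = .a ∨ q = .b ∨ q = .u ∨ q = .v → w q = 1 ∨ w q = -1 := fun q hq => by
    rcases R.unit q with e | e <;> rcases h4 q hq with e' | e' <;> simp [hw, e, e']
  have hwx : ∀ i, w (.x i) = 0 := fun i => by simp [hw, h0 i]
  have hwk : ∀ i, w (.k i) = 0 := fun i => by simp [hw, h0k i]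
  have ha := hw4 .a (Or.inl rfl)
  have hb := hw4 .b (Or.inr (Or.inl rfl))
  have hu := hw4 .u (Or.inr (Or.inr (Or.inl rfl)))
  have hv := hw4 .v (Or.inr (Or.inr (Or.inr rfl)))
  have hsum : w .a + w .b = w .u + w .v ∧ (l = 2 → w .u = w .a) := by
    have h1 : ∀ i, ∑ q, w q * row l q i = 0 := horth
    rcases hl with ⟨rfl, rfl⟩ | ⟨rfl, rfl⟩
    · have := h1 0
      simp [Pos.sum_eq, row, red, hwx] at this
      exact ⟨by omega, fun e => absurd e (by norm_num)⟩
    · have e0 := h1 0
      have e1 := h1 1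
      simp [Pos.sum_eq, row, red, hwx, hwk] at e0 e1
      exact ⟨by omega, fun _ => by omega⟩
  by_cases hA : w .b = -w .a ∧ w .u = w .a
  · refine ⟨R, w .a, ha, fun q => ?_⟩
    show w q = _
    cases q with
    | a => simp [pvec]
    | b => simp [pvec, hA.1]
    | u => simp [pvec, hA.2]
    | v => simp [pvec]; omega
    | x i => simp [pvec, hwx]
    | g i => exact i.elim0
    | k i => simp [pvec, hwk]
  by_cases hB : w .b = -w .a
  · have hu' : w .u = -w .a := by
      rcases ha with e | e <;> rcases hu with e' | e' <;> simp [hB, e, e'] at hA ⊢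
    obtain ⟨rfl, rfl⟩ : l = 1 ∧ g = 0 := hl.resolve_right fun e => hA ⟨hB, hsum.2 e.1⟩
    refine ⟨reindex R (Equiv.swap .u .v) (fun _ => 1) (fun _ => Or.inl rfl) fun q i => ?_,
      w .a, ha, fun q => ?_⟩
    · cases q <;> simp [row, red, Equiv.swap_apply_of_ne_of_ne]
    · show (1 * R.σ (Equiv.swap Pos.u Pos.v q)) * τ (R.ρ (Equiv.swap Pos.u Pos.v q)) = _
      rw [one_mul]
      show w (Equiv.swap Pos.u Pos.v q) = _
      cases q with
      | a => simp [pvec, Equiv.swap_apply_of_ne_of_ne]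
      | b => simp [pvec, Equiv.swap_apply_of_ne_of_ne, hB]
      | u => simp [pvec]; omega
      | v => simp [pvec, hu']
      | x i => simp [pvec, Equiv.swap_apply_of_ne_of_ne, hwx]
      | g i => exact i.elim0
      | k i => exact i.elim0
  · have hb' : w .b = w .a := by
      rcases ha with e | e <;> rcases hb with e' | e' <;> simp [e, e'] at hB ⊢
    have hu' : w .u = w .a ∧ w .v = w .a := by
      rcases ha with e | e <;> rcases hu with e' | e' <;> rcases hv with e'' | e'' <;>
        simp [hb', e, e', e''] at hsum ⊢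
    refine ⟨reindex R (Equiv.swap .b .v) (fun q => if q = .b ∨ q = .v then -1 else 1)
      (fun q => by split_ifs <;> simp) fun q i => ?_, w .a, ha, fun q => ?_⟩
    · rcases hl with ⟨rfl, rfl⟩ | ⟨rfl, rfl⟩ <;> cases q <;>
        simp [row, red, Equiv.swap_apply_of_ne_of_ne] <;> fin_cases i <;> simp
    · show ((if q = Pos.b ∨ q = Pos.v then -1 else 1) * R.σ (Equiv.swap Pos.b Pos.v q)) *
        τ (R.ρ (Equiv.swap Pos.b Pos.v q)) = _
      rw [mul_assoc]
      show (if q = Pos.b ∨ q = Pos.v then -1 else 1) * w (Equiv.swap Pos.b Pos.v q) = _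
      cases q with
      | a => simp [pvec, Equiv.swap_apply_of_ne_of_ne]
      | b => simp [pvec, hu'.2]
      | u => simp [pvec, Equiv.swap_apply_of_ne_of_ne, hu'.1]
      | v => simp [pvec, hb']
      | x i => simp [pvec, Equiv.swap_apply_of_ne_of_ne, hwx]
      | g i => exact i.elim0
      | k i => simp [pvec, Equiv.swap_apply_of_ne_of_ne, hwk]

/-- A row model with standard signs gives the columns. -/
theorem cols_of_normal (hs : Shape l 0 g) [Fintype B] (R : RowModel p B N 0 g l) {τ : B → ℤ}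
    {c : ℤ} (hc : c = 1 ∨ c = -1) (hτ : ∀ q, R.σ q * τ (R.ρ q) = c * pvec q) :
    ∃ c₀ : Sel₁ N → B → ℤ,
      (∀ i, IsKer p B fun χ => (c₀ i χ : ℂ)) ∧
      (∀ i, ∑ χ : B, (c₀ i χ : ℂ) * (τ χ : ℂ) = 0) ∧
      (∀ i j, ∑ χ : B, c₀ i χ * c₀ j χ = gramA N g i j) ∧
      ∀ f : B → ℂ, IsKer p B f → ∑ χ : B, f χ * (τ χ : ℂ) = 0 →
        ∃ α : Sel₁ N → ℂ, ∀ χ, f χ = ∑ i, α i * (c₀ i χ : ℂ) := by
  classical
  have hτ' : ∀ q, τ (R.ρ q) = R.σ q * (c * pvec q) := fun q => by
    rw [← hτ q, ← mul_assoc, R.sign_sq, one_mul]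
  have hp : ∀ s : Sel₁ N, ∑ q : Pos N 0 g, col (emb s) q * pvec q = 0 := by
    rintro (i | _ | _) <;> simp [emb, Pos.sum_eq, col, pvec]
  refine ⟨fun i χ => R.σ (R.ρ.symm χ) * col (emb i) (R.ρ.symm χ), fun i s hs' => ?_, fun i => ?_,
    fun i j => ?_, fun f hf hft => ?_⟩
  · rw [← R.ρ.sum_comp]
    simp only [R.ρ.symm_apply_apply]
    rw [Finset.sum_congr rfl (g := fun q => ∑ k, ((col (emb i) q * row l q k : ℤ) : ℂ) * R.Φ k s)
      fun q _ => by
        rw [Int.cast_mul, mul_comm (R.σ q : ℂ), mul_assoc, R.hrow q s hs', Finset.mul_sum]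
        exact Finset.sum_congr rfl fun k _ => by push_cast; ring, Finset.sum_comm]
    refine Finset.sum_eq_zero fun k _ => ?_
    rw [← Finset.sum_mul, ← Int.cast_sum, col_row hs, Int.cast_zero, zero_mul]
  · rw [← R.ρ.sum_comp]
    simp only [R.ρ.symm_apply_apply, hτ', ← Int.cast_mul, ← Int.cast_sum]
    rw [Finset.sum_congr rfl (g := fun q => c * (col (emb i) q * pvec q)) fun q _ => by
      linear_combination (col (emb i) q * c * pvec q) * R.sign_sq q, ← Finset.mul_sum, hp,
      mul_zero, Int.cast_zero]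
  · rw [gramA, ← R.ρ.sum_comp]
    refine Finset.sum_congr rfl fun q _ => ?_
    simp only [R.ρ.symm_apply_apply]
    linear_combination (col (emb i) q * col (emb j) q) * R.sign_sq q
  set φ : Pos N 0 g → ℂ := fun q => (R.σ q : ℂ) * f (R.ρ q) with hφ
  have hsq : ∀ q, (R.σ q : ℂ) * (R.σ q : ℂ) = 1 := fun q => by
    rw [← Int.cast_mul, R.sign_sq, Int.cast_one]
  have hrel : ∀ j, ∑ q, φ q * (row l q j : ℂ) = 0 := fun j => by
    refine congrFun (R.indep (fun j => ∑ q, φ q * (row l q j : ℂ)) fun s hs' => ?_) j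
    refine Eq.trans ?_ (hf s hs')
    rw [← R.ρ.sum_comp]
    simp only [Finset.sum_mul]
    rw [Finset.sum_comm]
    refine Finset.sum_congr rfl fun q _ => ?_
    simp only [mul_assoc, ← Finset.mul_sum, ← R.hrow q s hs', hφ]
    linear_combination (f (R.ρ q) * ((R.ρ q : Cfsg.IrrCharacter G) : G → ℂ) s) * hsq q
  obtain ⟨α, hα⟩ := exists_comb hs φ hrel
  have hzero : α (Sel.H false) = 0 := by
    have e : ∑ q, φ q * ((c * pvec q : ℤ) : ℂ) = 0 := by
      rw [← hft, ← R.ρ.sum_comp]
      refine Finset.sum_congr rfl fun q _ => ?_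
      rw [← hτ q]
      push_cast
      simp only [hφ]
      linear_combination (f (R.ρ q) * (τ (R.ρ q) : ℂ)) * hsq q
    have hc0 : (c : ℂ) ≠ 0 := Int.cast_ne_zero.2 (by omega)
    simp only [Int.cast_mul, ← mul_assoc, mul_comm _ (c : ℂ)] at e
    simp only [mul_assoc, ← Finset.mul_sum, mul_eq_zero, hc0, false_or, hα, Finset.sum_mul] at e
    rw [Finset.sum_comm] at e
    simp only [mul_assoc, ← Finset.mul_sum, ← Int.cast_mul, ← Int.cast_sum] at e
    simp [Fintype.sum_sum_type, Pos.sum_eq, col, pvec] at e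
    linear_combination e
  refine ⟨fun i => α (emb i), fun χ => ?_⟩
  obtain ⟨q, rfl⟩ := R.ρ.surjective χ
  simp only [R.ρ.symm_apply_apply]
  calc f (R.ρ q) = (R.σ q : ℂ) * φ q := by
        simp only [hφ]; linear_combination -(f (R.ρ q)) * hsq q
    _ = _ := by
      rw [hα q, Fintype.sum_sum_type, Fintype.sum_sum_type, Fintype.sum_bool, Fintype.sum_sum_type,
        Fintype.sum_sum_type]
      simp only [Finset.univ_unique, Finset.sum_singleton, emb, hzero, zero_mul, add_zero,
        mul_add, Finset.mul_sum]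
      push_cast
      congr 1
      · exact Finset.sum_congr rfl fun i _ => by ring
      · ring

end Cfsg.Agent.Blocks.Semidihedral
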