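import Mathlib
import Cfsg.Agent.Lib.Blocks.Quaternion.Faithful
import Cfsg.Agent.Lib.Blocks.DihedralRank.Central
import Cfsg.Agent.Lib.Blocks.Semidihedral.Rotations
import Cfsg.Agent.Lib.Blocks.Semidihedral.Involution
import Cfsg.Agent.Lib.Blocks.Semidihedral.Signs

/-!
# A block with semidihedral defect group over a central involution
-/

set_option linter.style.haveILetI false
set_option linter.unusedSectionVars false

namespace Cfsg.Agent.Blocks.Semidihedral

open Cfsg.Agent.Blocks Cfsg.Agent.Characters Cfsg.Agent.Blocks.Star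
open Cfsg.Agent.Blocks.CentralStep Cfsg.Agent.Blocks.Quaternion
open Cfsg.Agent.BlockCharsA Cfsg.Agent.BlockCharsA.BrauerPairs Cfsg.Agent.BlockCharsA.PairConj
open Cfsg.Agent.BlockCharsA.PairMax Cfsg.Agent.BlockCharsA.Contrib
open MonoidAlgebra
open scoped ComplexConjugate

universe u

variable {K : Type u} [Group K] [Finite K] {M : Ideal Cfsg.AlgInt}
  {b : Set (Cfsg.IrrCharacter K)} {Q : Subgroup K}
  {a : Set (Cfsg.IrrCharacter (Subgroup.centralizer (Q : Set K)))} {q : Q} {N : ℕ}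

namespace IsSD

variable (h : IsSD Q q N)
include h

/-- The centraliser, inside the top, of an involution outside the rotations. -/
theorem cent_card {s : Q} (hs : s ∉ Subgroup.zpowers q) (hs2 : s * s = 1) :
    Nat.card ↥(Q ⊓ CU (s : K)) = 4 ∧ ∀ x ∈ Q ⊓ CU (s : K), x * x = 1 := by
  classical
  set z : Q := q ^ (N / 2)
  have hs1 : s ≠ 1 := fun e => hs (e ▸ Subgroup.one_mem _)
  have hzR : z ∈ Subgroup.zpowers q := Subgroup.npow_mem_zpowers q _
  have hz1 : z ≠ 1 := h.z_facts.1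
  have hzs : z * s = s * z := (h.z_central s).symm
  have hmem : ∀ x : Q, (x : K) ∈ CU (s : K) ↔ x = 1 ∨ x = z ∨ x = s ∨ x = z * s := by
    intro x
    constructor
    · intro hx
      exact h.cent_refl hs hs2 (Subtype.ext (commute_of_mem_CU hx).eq.symm)
    · intro hx
      refine mem_CU_of_commute ?_
      have : Commute s x := by
        rcases hx with rfl | rfl | rfl | rfl
        · exact Commute.one_right _
        · exact hzs.symm
        · exact Commute.refl _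
        · exact (show Commute s z from hzs.symm).mul_right (Commute.refl _)
      exact this.map Q.subtype
  have hzs_not : z * s ∉ Subgroup.zpowers q := fun e => hs (by
    have := mul_mem (Subgroup.inv_mem _ hzR) e
    rwa [inv_mul_cancel_left] at this)
  constructor
  · have hset : ((Q ⊓ CU (s : K) : Subgroup K) : Set K) =
        Subtype.val '' ({1, z, s, z * s} : Set Q) := Set.ext fun x => by
      constructor
      · rintro ⟨hxQ, hx⟩
        exact ⟨⟨x, hxQ⟩, by simpa using (hmem ⟨x, hxQ⟩).1 hx, rfl⟩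
      · rintro ⟨y, hy, rfl⟩
        exact ⟨y.2, (hmem y).2 (by simpa using hy)⟩
    rw [← SetLike.coe_sort_coe, Nat.card_coe_set_eq, hset,
      Set.ncard_image_of_injective _ Subtype.val_injective, Set.ncard_insert_of_notMem,
      Set.ncard_insert_of_notMem, Set.ncard_pair]
    · exact fun e => hz1 (mul_eq_right.1 e.symm)
    · simp only [Set.mem_insert_iff, Set.mem_singleton_iff, not_or]
      exact ⟨fun e => hs (e ▸ hzR), fun e => hzs_not (e ▸ hzR)⟩
    · simp only [Set.mem_insert_iff, Set.mem_singleton_iff, not_or]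
      exact ⟨hz1.symm, hs1.symm, fun e => hzs_not (e ▸ Subgroup.one_mem _)⟩
  · rintro x ⟨hxQ, hx⟩
    have e : (⟨x, hxQ⟩ : Q) * ⟨x, hxQ⟩ = 1 := by
      rcases (hmem ⟨x, hxQ⟩).1 hx with e | e | e | e <;> rw [e]
      · exact one_mul 1
      · exact h.z_facts.2
      · exact hs2
      · rw [show z * s * (z * s) = z * (s * z) * s by group, ← hzs, ← mul_assoc, h.z_facts.2,
          one_mul, hs2]
    exact congrArg Subtype.val e

/-- Shifting a rotation by the involution does not change the generated subgroup. -/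
theorem zpowers_shift {v : Q} (hv : v ∈ Subgroup.zpowers q) (h1 : v ≠ 1)
    (hz : v * q ^ (N / 2) ≠ 1) :
    Subgroup.zpowers ((v * q ^ (N / 2) : Q) : K) = Subgroup.zpowers (v : K) := by
  have h2 : Subgroup.zpowers (v * q ^ (N / 2)) = Subgroup.zpowers v := by
    refine le_antisymm (Subgroup.zpowers_le.2 (mul_mem (Subgroup.mem_zpowers v)
      (h.z_mem_of_rot hv h1))) (Subgroup.zpowers_le.2 ?_)
    have := mul_mem (Subgroup.mem_zpowers (v * q ^ (N / 2)))
      (h.z_mem_of_rot (mul_mem hv (Subgroup.npow_mem_zpowers q _)) hz)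
    rwa [mul_assoc, h.z_facts.2, mul_one] at this
  have := congrArg (Subgroup.map Q.subtype) h2
  rwa [MonoidHom.map_zpowers, MonoidHom.map_zpowers] at this

end IsSD

variable (hM : Cfsg.IsPModular 2 M) (hmax : Cfsg.IsMaximalBrauerPair 2 M b Q a) (h : IsSD Q q N)
  (hc : ((q ^ (N / 2) : Q) : K) ∈ Subgroup.center K)
include hM hmax h hc

/-- The weights at a shifted rotation. -/
theorem wgt_shift {v : Q} (hv : v ∈ Subgroup.zpowers q) (h1 : v ≠ 1) (hz : v * q ^ (N / 2) ≠ 1)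
    (χ ψ : Cfsg.IrrCharacter K) :
    wgt 2 M a (χ : K → ℂ) (ψ : K → ℂ) (v * q ^ (N / 2)) =
      sgn ((q ^ (N / 2) : Q) : K) χ * sgn ((q ^ (N / 2) : Q) : K) ψ *
        wgt 2 M a (χ : K → ℂ) (ψ : K → ℂ) v := by
  have e := h.zpowers_shift hv h1 hz
  have hcard : Nat.card (CU ((v * q ^ (N / 2) : Q) : K)) = Nat.card (CU (v : K)) :=
    Nat.card_congr (MulEquiv.subgroupCongr (congrArg
      (fun S : Subgroup K => Subgroup.centralizer (S : Set K)) e)).toEquiv
  rw [wgt, wgt, hcard, eps_congr hM hmax e, pairing, pairing, Subgroup.coe_mul, regAt_shift hc,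
    ← mul_div_assoc, Finset.mul_sum]
  congr 1
  refine Finset.sum_congr rfl fun s _ => ?_
  rw [th_shift hc, th_shift hc, map_mul,
    conj_sgn hc (congrArg Subtype.val h.z_facts.2) ψ]
  ring

/-- A fused involution outside the rotations stays outside. -/
theorem short_of_fused {s w : Q} (hs : s ∉ Subgroup.zpowers q) (hs2 : s * s = 1)
    {x : K} (hw : (w : K) = x * (s : K) * x⁻¹) : w ∉ Subgroup.zpowers q ∧ w * w = 1 := by
  have hww : w * w = 1 := by
    refine Subtype.ext ?_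
    have e : (s : K) * s = 1 := congrArg Subtype.val hs2
    rw [Subgroup.coe_mul, hw, show x * (s : K) * x⁻¹ * (x * (s : K) * x⁻¹) =
      x * ((s : K) * s) * x⁻¹ by group, e, mul_one, mul_inv_cancel]
    rfl
  refine ⟨fun hR => ?_, hww⟩
  rcases h.sq_eq_one hR hww with e | e
  · have : x * (s : K) * x⁻¹ = 1 := by rw [← hw, e]; rfl
    exact hs ((Subtype.ext (conj_eq_one_iff.1 this) : s = 1) ▸ Subgroup.one_mem _)
  · have e1 : x * (s : K) * x⁻¹ = ((q ^ (N / 2) : Q) : K) := by rw [← hw, e]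
    have e2 : (s : K) = ((q ^ (N / 2) : Q) : K) := by
      rw [mul_inv_eq_iff_eq_mul, ← Subgroup.mem_center_iff.1 hc x] at e1
      exact mul_left_cancel e1
    exact hs ((Subtype.ext e2 : s = q ^ (N / 2)) ▸ Subgroup.npow_mem_zpowers q _)

/-- The column at an involution outside the rotations; it vanishes on the characters reversed
by the central involution. -/
theorem exists_tau [Fintype b] {s : Q} (hs : s ∉ Subgroup.zpowers q) (hs2 : s * s = 1) :
    ∃ τ : b → ℤ, ∑ χ : b, τ χ ^ 2 = 4 ∧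
      (∀ χ θ : b, wgt 2 M a ((χ : Cfsg.IrrCharacter K) : K → ℂ)
        ((θ : Cfsg.IrrCharacter K) : K → ℂ) s = ((τ χ * τ θ : ℤ) : ℂ) / 4) ∧
      (∀ χ : b, Cfsg.blockHeight 2 b ((χ : Cfsg.IrrCharacter K) : K → ℂ) = 0 → τ χ ≠ 0) ∧
      ∀ χ : b, sgn ((q ^ (N / 2) : Q) : K) (χ : Cfsg.IrrCharacter K) = -1 → τ χ = 0 := by
  classical
  haveI := Fintype.ofFinite K
  set z : Q := q ^ (N / 2)
  have hs1 : s ≠ 1 := fun e => hs (e ▸ Subgroup.one_mem _)
  obtain ⟨hc4, hel⟩ := h.cent_card hs hs2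
  obtain ⟨τ, Φ, hΦ, hth, hwgt, hsum, h0⟩ := exists_col_invol hM hmax
    (congrArg Subtype.val hs2) hs1 hc4 hel fun w hw => by
      obtain ⟨x, hx, -⟩ := hw
      obtain ⟨hw1, hw2⟩ := short_of_fused hM hmax h hc hs hs2 hx
      exact (h.cent_card hw1 hw2).1.le
  refine ⟨τ, hsum, hwgt, h0, fun χ hχ => ?_⟩
  obtain ⟨g, hle, hg, he⟩ := eps_spec hM hmax s
  -- the value at the involution is its part
  have hval : ((χ : Cfsg.IrrCharacter K) : K → ℂ) (s : K) = (τ χ : ℂ) * Φ 1 := by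
    have h1 : (1 : K) ∈ regAt 2 (s : K) := mem_regAt.2 ⟨Commute.one_right _, by simp⟩
    rw [← hth χ 1 h1]
    conv_lhs => rw [← mul_one (s : K)]
    rw [eq_sum_th hM ((χ : Cfsg.IrrCharacter K) : K → ℂ)]
    refine Finset.sum_eq_single_of_mem _ (eps_mem_BI hM hmax s) fun ε hε hne => ?_
    obtain ⟨f, hf, rfl⟩ := mem_BI.1 hε
    by_cases hp : Cfsg.IsBrauerPairOf 2 M b (Subgroup.zpowers (s : K)) f
    · obtain ⟨w, x, hw, hx⟩ := (witness_iff hM hmax (orderOf_top hM hmax s) hf).2 hp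
      obtain ⟨hw1, hw2⟩ := short_of_fused hM hmax h hc hs hs2 hw
      obtain ⟨d, rfl⟩ := h.refl_conj hs hs2 hw1 hw2
      refine absurd ?_ hne
      have hy : (d : K)⁻¹ * x ∈ CU (s : K) := by
        refine mem_CU_of_commute ?_
        have e' : (d : K) * (s : K) * (d : K)⁻¹ = x * (s : K) * x⁻¹ := hw
        show (s : K) * ((d : K)⁻¹ * x) = (d : K)⁻¹ * x * (s : K)
        calc (s : K) * ((d : K)⁻¹ * x) = (d : K)⁻¹ * ((d : K) * (s : K) * (d : K)⁻¹) * x := by group
          _ = _ := by rw [e']; group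
      rw [← cjE_eq_self (invBy_BI hε) hy, ← cjE_cjE, hx, ← eps_conj_top hM hmax s d, cjE_cjE,
        inv_mul_cancel, cjE_one]
    · exact th_eq_zero hM hmax.1.2.1 χ.2 (orderOf_top hM hmax s) hf hp h1
  -- conjugation exchanges the involution and its shift
  have hzs : z * s ∉ Subgroup.zpowers q ∧ z * s * (z * s) = 1 := by
    refine ⟨fun e => hs ?_, ?_⟩
    · have := mul_mem (Subgroup.inv_mem _ (Subgroup.npow_mem_zpowers q (N / 2))) e
      rwa [inv_mul_cancel_left] at this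
    · rw [show z * s * (z * s) = z * (s * z) * s by group, h.z_central s, ← mul_assoc,
        h.z_facts.2, one_mul, hs2]
  obtain ⟨d, hd⟩ := h.refl_conj hs hs2 hzs.1 hzs.2
  have e1 : ((χ : Cfsg.IrrCharacter K) : K → ℂ) (s : K) =
      -((χ : Cfsg.IrrCharacter K) : K → ℂ) (s : K) := by
    have e := val_mul hc (χ : Cfsg.IrrCharacter K) (s : K)
    rw [← Subgroup.coe_mul, hd, Subgroup.coe_mul, Subgroup.coe_mul, Subgroup.coe_inv,
      irr_isClassFunction (χ : Cfsg.IrrCharacter K) (s : K) (d : K), hχ, neg_one_mul] at e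
    exact e
  have e2 : ((χ : Cfsg.IrrCharacter K) : K → ℂ) (s : K) = 0 := by linear_combination e1 / 2
  rw [hval] at e2
  exact Int.cast_eq_zero.1 ((mul_eq_zero.1 e2).resolve_right hΦ)

/-- A character on which the involution acts by minus one has positive height. -/
theorem height_ne_zero {ψ : Cfsg.IrrCharacter K} (hψ : ψ ∈ b)
    (hs : sgn ((q ^ (N / 2) : Q) : K) ψ = -1) :
    Cfsg.blockHeight 2 b (ψ : K → ℂ) ≠ 0 := fun h0 => by
  haveI := Fintype.ofFinite b
  obtain ⟨s, hsR, hs2⟩ := h.split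
  obtain ⟨τ, -, -, hne, hneg⟩ := exists_tau hM hmax h hc hsR hs2
  exact hne ⟨ψ, hψ⟩ h0 (hneg ⟨ψ, hψ⟩ hs)

/-- Columns supported on the characters reversed by the involution. -/
theorem exists_orth_cols [Fintype b] {m : ℕ} (hN : N = 4 * (m + 1)) :
    ∃ (u : Fin m → b → ℂ) (c : Fin m → ℂ), (∀ i, c i ≠ 0) ∧
      (∀ i (ψ : b), sgn ((q ^ (N / 2) : Q) : K) (ψ : Cfsg.IrrCharacter K) = 1 → u i ψ = 0) ∧
      (∀ i, ∀ s : K, ¬ 2 ∣ orderOf s →
        ∑ ψ : b, u i ψ * ((ψ : Cfsg.IrrCharacter K) : K → ℂ) s = 0) ∧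
      ∀ i j, ∑ ψ : b, u i ψ * conj (u j ψ) = if i = j then c i else 0 := by
  classical
  haveI := Fintype.ofFinite K
  haveI := Fintype.ofFinite (Cfsg.IrrCharacter K)
  have hb := hmax.1.2.1
  obtain ⟨χ₀, hχ₀, h00⟩ := exists_height_zero hM hb
  set Z : K := ((q ^ (N / 2) : Q) : K) with hZdef
  have hZ2 : Z * Z = 1 := congrArg Subtype.val h.z_facts.2
  have hs0 : sgn Z χ₀ = 1 := (sgn_cases hc hZ2 χ₀).resolve_right fun e =>
    height_ne_zero hM hmax h hc hχ₀ e h00
  set V : Q → b → ℂ := fun v ψ =>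
    wgt 2 M a (χ₀ : K → ℂ) ((ψ : Cfsg.IrrCharacter K) : K → ℂ) v with hV
  set v : Fin m → Q := fun i => q ^ ((i : ℕ) + 1) with hv
  set v' : Fin m → Q := fun i => q ^ ((i : ℕ) + 1) * q ^ (N / 2) with hv'
  have hne : ∀ {k : ℕ}, 0 < k → k < N → q ^ k ≠ 1 := fun hk hk' e => by
    have := Nat.le_of_dvd hk (h.pow_eq_one.1 e)
    omega
  have hv1 : ∀ i, v i ≠ 1 := fun i => hne (Nat.succ_pos _) (by omega)
  have hv'1 : ∀ i, v' i ≠ 1 := fun i => by
    simp only [hv', ← pow_add]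
    exact hne (by omega) (by omega)
  have hshift : ∀ i (χ : Cfsg.IrrCharacter K),
      wgt 2 M a (χ₀ : K → ℂ) (χ : K → ℂ) (v' i) =
        sgn Z χ * wgt 2 M a (χ₀ : K → ℂ) (χ : K → ℂ) (v i) := fun i χ => by
    rw [hv', wgt_shift hM hmax h hc (Subgroup.npow_mem_zpowers q _) (hv1 i) (hv'1 i), ← hZdef,
      hs0, one_mul]
  have hV' : ∀ i ψ, V (v' i) ψ = sgn Z (ψ : Cfsg.IrrCharacter K) * V (v i) ψ := fun i ψ =>
    hshift i _
  set u : Fin m → b → ℂ := fun i ψ => V (v i) ψ - V (v' i) ψ with hu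
  obtain ⟨s₁, hs₁R, hs₁2⟩ := h.split
  have hfus : ∀ {k k' : ℕ}, (0 < k ∧ k < N / 4 ∨ N / 2 < k ∧ k < N / 2 + N / 4) →
      (0 < k' ∧ k' < N / 4 ∨ N / 2 < k' ∧ k' < N / 2 + N / 4) →
      Fused 2 M a (q ^ k) (q ^ k') → k = k' := by
    intro k k' hk hk' hf
    have hfr := h.fused_rot hM hmax (Subgroup.npow_mem_zpowers q k)
      (Subgroup.npow_mem_zpowers q k') hf hs₁R hs₁2
    rcases hfr with e | e
    · rw [pow_inj_mod, h.ord, Nat.mod_eq_of_lt (by omega), Nat.mod_eq_of_lt (by omega)] at e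
      exact e.symm
    · rw [h.conj_pow hs₁R] at e
      have e2 : q ^ (k' + k) = q ^ (N / 2 * k) := by
        rw [pow_add, e, ← pow_add, ← Nat.succ_mul, Nat.succ_eq_add_one,
          Nat.sub_add_cancel (by omega)]
      rcases Nat.even_or_odd k with ⟨j, hj⟩ | ⟨j, hj⟩
      · have e3 : q ^ (k' + k) = 1 := by
          rw [e2, h.pow_eq_one]
          exact ⟨j, by rw [hj, ← two_mul, ← mul_assoc]; congr 1; omega⟩
        obtain ⟨c, hc'⟩ := h.pow_eq_one.1 e3
        exfalso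
        rcases c with _ | _ | c
        · omega
        · omega
        · rw [show c + 1 + 1 = c + 2 from rfl, mul_add] at hc'
          omega
      · have e3 : q ^ (k' + k + N / 2) = 1 := by
          rw [pow_add, e2, ← pow_add, h.pow_eq_one]
          exact ⟨j + 1, by
            rw [hj, Nat.mul_add, Nat.mul_add, mul_one, mul_one, ← mul_assoc,
              Nat.div_mul_cancel (show 2 ∣ N by omega), add_assoc, show N / 2 + N / 2 = N by omega]⟩
        obtain ⟨c, hc'⟩ := h.pow_eq_one.1 e3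
        exfalso
        rcases c with _ | _ | _ | c
        · omega
        · omega
        · omega
        · rw [show c + 1 + 1 + 1 = c + 3 from rfl, mul_add] at hc'
          omega
  have horth : ∀ x y : Q, ∑ ψ : b, V x ψ * conj (V y ψ) =
      if Fused 2 M a x y then wgt 2 M a (χ₀ : K → ℂ) (χ₀ : K → ℂ) x else 0 := fun x y => by
    rw [← Finset.sum_subtype (Finset.univ.filter fun χ : Cfsg.IrrCharacter K => χ ∈ b)
      (fun χ => by simp) (fun χ : Cfsg.IrrCharacter K =>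
        wgt 2 M a (χ₀ : K → ℂ) (χ : K → ℂ) x * conj (wgt 2 M a (χ₀ : K → ℂ) (χ : K → ℂ) y))]
    exact column_orth hM hmax (irr_isClassFunction χ₀) (irr_isClassFunction χ₀) x y
  refine ⟨u, fun i => 2 * wgt 2 M a (χ₀ : K → ℂ) (χ₀ : K → ℂ) (v i),
    fun i => mul_ne_zero two_ne_zero (wgt_self_ne_zero hM hmax hχ₀ h00 _), fun i ψ hψ => ?_,
    fun i s hs => ?_, fun i j => ?_⟩
  · simp only [hu, hV', hψ, one_mul, sub_self]
  · have hr : ∀ x : Q, x ≠ 1 →
        ∑ ψ : b, V x ψ * ((ψ : Cfsg.IrrCharacter K) : K → ℂ) s = 0 := fun x hx => by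
      rw [← Finset.sum_subtype (Finset.univ.filter fun χ : Cfsg.IrrCharacter K => χ ∈ b)
        (fun χ => by simp) (fun χ : Cfsg.IrrCharacter K =>
          wgt 2 M a (χ₀ : K → ℂ) (χ : K → ℂ) x * (χ : K → ℂ) s)]
      exact column_regular hM hmax hχ₀ hx hs
    simp only [hu, sub_mul, Finset.sum_sub_distrib, hr (v i) (hv1 i), hr _ (hv'1 i), sub_zero]
  · have e1 : ∑ ψ : b, u i ψ * conj (u j ψ) =
        ((∑ ψ : b, V (v i) ψ * conj (V (v j) ψ)) - ∑ ψ : b, V (v i) ψ * conj (V (v' j) ψ)) -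
        ((∑ ψ : b, V (v' i) ψ * conj (V (v j) ψ)) - ∑ ψ : b, V (v' i) ψ * conj (V (v' j) ψ)) := by
      simp only [hu, map_sub, sub_mul, mul_sub, Finset.sum_sub_distrib]
      ring
    have hA : Fused 2 M a (v i) (v j) ↔ i = j := by
      refine ⟨fun hf => Fin.ext ?_, fun e => e ▸ fused_refl _⟩
      have := hfus (Or.inl ⟨Nat.succ_pos _, by omega⟩) (Or.inl ⟨Nat.succ_pos _, by omega⟩) hf
      omega
    have hB : ∀ i j, ¬ Fused 2 M a (v i) (v' j) := fun i j hf => by
      simp only [hv', ← pow_add] at hf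
      have := hfus (Or.inl ⟨Nat.succ_pos _, by omega⟩) (Or.inr ⟨by omega, by omega⟩) hf
      omega
    have hC : Fused 2 M a (v' i) (v' j) ↔ i = j := by
      refine ⟨fun hf => Fin.ext ?_, fun e => e ▸ fused_refl _⟩
      simp only [hv', ← pow_add] at hf
      have := hfus (Or.inr ⟨by omega, by omega⟩) (Or.inr ⟨by omega, by omega⟩) hf
      omega
    have hc' : wgt 2 M a (χ₀ : K → ℂ) (χ₀ : K → ℂ) (v' i) =
        wgt 2 M a (χ₀ : K → ℂ) (χ₀ : K → ℂ) (v i) := by rw [hshift, hs0, one_mul]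
    rw [e1, horth, horth, horth, horth, if_neg (hB i j),
      if_neg (show ¬ Fused 2 M a (v' i) (v j) from fun hf => hB j i hf.symm), hc']
    by_cases e : i = j
    · rw [if_pos (hA.2 e), if_pos (hC.2 e), if_pos e]; ring
    · rw [if_neg (fun hf => e (hA.1 hf)), if_neg (fun hf => e (hC.1 hf)), if_neg e]; ring

/-- The rows of a block over a central involution with quaternion defect group. -/
theorem local_model :
    ∃ l g, g ≤ 1 ∧ (l = 1 ∧ g = 0 ∨ l = 2 ∧ g = 1) ∧
      Nonempty (RowModel 2 b ((N / 4 - 1) + ((N / 4 - 1) + 1)) 0 g l) := by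
  classical
  haveI := fact_prime_of_pm hM
  haveI := Fintype.ofFinite K
  haveI := Fintype.ofFinite b
  haveI := Fintype.ofFinite (Cfsg.IrrCharacter K)
  have hb := hmax.1.2.1
  set Z : K := ((q ^ (N / 2) : Q) : K) with hZdef
  have hZ2 : Z * Z = 1 := congrArg Subtype.val h.z_facts.2
  have hZ1 : Z ≠ 1 := fun e => h.z_facts.1 (Subtype.ext e)
  have hordZ : orderOf Z = 2 := orderOf_eq_prime (by rw [pow_two, hZ2]) hZ1
  set m := N / 4 - 1 with hm
  obtain ⟨q₄, -, hq₄, hNq⟩ := h.exists_quarter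
  have hN4 : N = 4 * (m + 1) := by omega
  set N0 := Subgroup.zpowers Z with hN0def
  have hcen : N0 ≤ Subgroup.center K := Subgroup.zpowers_le.2 hc
  haveI hnorm : N0.Normal := ⟨fun x hx g => by
    rw [Subgroup.mem_center_iff.1 (hcen hx) g, mul_inv_cancel_right]; exact hx⟩
  have hN0 : IsPGroup 2 N0 := IsPGroup.of_card (n := 1) (by rw [Nat.card_zpowers, hordZ, pow_one])
  have hmem : ∀ x : K, x ∈ N0 ↔ x = 1 ∨ x = Z := by
    intro x
    constructor
    · intro hx
      obtain ⟨k, rfl⟩ := mem_powers_iff_mem_zpowers.2 hx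
      show Z ^ k = 1 ∨ Z ^ k = Z
      rw [← pow_mod_orderOf, hordZ]
      rcases Nat.mod_two_eq_zero_or_one k with e | e <;> simp [e]
    · rintro (rfl | rfl)
      exacts [one_mem _, Subgroup.mem_zpowers _]
  obtain ⟨Bbar, hBbar, hsub, hdef⟩ := exists_block_quotient (N := N0) hM hN0 hb
  haveI := Fintype.ofFinite Bbar
  haveI := Fintype.ofFinite (Cfsg.IrrCharacter (K ⧸ N0))
  have hD : Cfsg.IsDefectGroup 2 M b Q := isDefectGroup_of_maximal hM hmax
  obtain ⟨ab, hmaxb⟩ := PairCorr.exists_maximal_on hM hBbar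
    ((hdef (Q.map (QuotientGroup.mk' N0))).2 ⟨Q, hD, rfl⟩)
  have hf : ∀ d : Q, QuotientGroup.mk' N0 d = 1 ↔ d = 1 ∨ d = q ^ (N / 2) := fun d => by
    rw [QuotientGroup.mk'_apply, QuotientGroup.eq_one_iff, hmem, hZdef]
    simp only [Subtype.ext_iff, OneMemClass.coe_one]
  obtain ⟨l, hl, hl2, ⟨R⟩⟩ : BarOut Bbar m := by
    have := bar_dihedral hM hmaxb (h.map_isDih _ hf)
    rwa [show m = N / 2 / 2 - 1 by omega]
  -- the rows
  set Φ : Fin l → K → ℂ := fun i s => R.Φ i (s : K ⧸ N0) with hΦ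
  have hind : ∀ t : Fin l → ℂ, (∀ s : K, ¬ 2 ∣ orderOf s → ∑ i, t i * Φ i s = 0) → t = 0 :=
    fun t ht => eq_zero_of_lift R ht
  have huniq : ∀ x y : Fin l → ℤ, (∀ s : K, ¬ 2 ∣ orderOf s →
      ∑ i, (x i : ℂ) * Φ i s = ∑ i, (y i : ℂ) * Φ i s) → x = y := fun x y e => by
    funext i
    have := congrFun (hind (fun i => (x i : ℂ) - (y i : ℂ)) fun s hs => by
      simp only [sub_mul, Finset.sum_sub_distrib, e s hs, sub_self]) i
    simpa [sub_eq_zero] using this
  have hex : ∀ ψ : b, ∃ W : Fin l → ℤ, ∀ s : K, ¬ 2 ∣ orderOf s →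
      ((ψ : Cfsg.IrrCharacter K) : K → ℂ) s = ∑ i, (W i : ℂ) * Φ i s := by
    intro ψ
    obtain ⟨co, hco⟩ := CharTheory.CyclicCofactor.exists_expansion hM hN0 hcen hb hBbar hsub ψ.2
    refine ⟨fun i => ∑ p, co (R.ρ p) * (R.σ p * row l p i), fun s hs => ?_⟩
    have hsq : ¬ 2 ∣ orderOf (s : K ⧸ N0) := fun hd =>
      hs (hd.trans (orderOf_map_dvd (QuotientGroup.mk' N0) s))
    rw [hco s hs, Finset.sum_subtype (p := fun θ => θ ∈ Bbar) _ (fun θ => by simp)
      (fun θ : Cfsg.IrrCharacter (K ⧸ N0) => (co θ : ℂ) * (θ : K ⧸ N0 → ℂ) (s : K ⧸ N0)),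
      ← R.ρ.sum_comp]
    simp only [R.value _ hsq, Int.cast_sum, Int.cast_mul, Finset.mul_sum, Finset.sum_mul, hΦ]
    rw [Finset.sum_comm]
    exact Finset.sum_congr rfl fun i _ => Finset.sum_congr rfl fun p _ => by ring
  choose W hW using hex
  set ι : Bbar → b := fun θ => ⟨inflIrr (θ : Cfsg.IrrCharacter (K ⧸ N0)), hsub _ θ.2⟩ with hι
  have hWι : ∀ p, W (ι (R.ρ p)) = fun i => R.σ p * row l p i := fun p => huniq _ _ fun s hs => by
    rw [← hW _ s hs]
    exact R.value p fun hd => hs (hd.trans (orderOf_map_dvd (QuotientGroup.mk' N0) s))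
  have hsι : ∀ θ, sgn Z (ι θ : Cfsg.IrrCharacter K) = 1 := fun θ => by
    have e := val_mul hc (ι θ : Cfsg.IrrCharacter K) 1
    rw [mul_one, show ((ι θ : Cfsg.IrrCharacter K) : K → ℂ) Z =
      ((ι θ : Cfsg.IrrCharacter K) : K → ℂ) 1 by
        show (θ : Cfsg.IrrCharacter (K ⧸ N0)).1 (Z : K ⧸ N0) = (θ : Cfsg.IrrCharacter (K ⧸ N0)).1
          ((1 : K) : K ⧸ N0)
        rw [(QuotientGroup.eq_one_iff Z).2 (Subgroup.mem_zpowers Z), QuotientGroup.mk_one]] at e
    exact (mul_eq_right₀ (irr_one_ne_zero (ι θ : Cfsg.IrrCharacter K).2)).1 e.symm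
  let eN : Bbar ≃ {ψ : b // sgn Z (ψ : Cfsg.IrrCharacter K) = 1} :=
    Equiv.ofBijective (fun θ => ⟨ι θ, hsι θ⟩) ⟨fun θ θ' e => by
      have e1 : ((inflIrr (θ : Cfsg.IrrCharacter (K ⧸ N0)) : Cfsg.IrrCharacter K) : K → ℂ) =
          (inflIrr (θ' : Cfsg.IrrCharacter (K ⧸ N0)) : Cfsg.IrrCharacter K) :=
        congrArg (fun t : {ψ : b // sgn Z (ψ : Cfsg.IrrCharacter K) = 1} =>
          (((t : b) : Cfsg.IrrCharacter K) : K → ℂ)) e
      exact Subtype.ext (Subtype.ext (funext fun k => by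
        obtain ⟨x, rfl⟩ := QuotientGroup.mk_surjective k
        exact congrFun e1 x)),
      fun ψ => by
        have hψ := ψ.2
        obtain ⟨f, -, hf1, hf2⟩ := exists_deflate_quotient N0
          (irr_isCharacter ((ψ : b) : Cfsg.IrrCharacter K)) fun x hx => by
            rcases (hmem x).1 hx with rfl | rfl
            · rfl
            · have e2 := val_mul hc ((ψ : b) : Cfsg.IrrCharacter K) 1
              rw [mul_one, hψ, one_mul] at e2
              exact e2
        have e1 : inflIrr (N := N0) ⟨f, hf2 ((ψ : b) : Cfsg.IrrCharacter K).2⟩ =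
            ((ψ : b) : Cfsg.IrrCharacter K) := Subtype.ext (funext hf1)
        exact ⟨⟨_, CharTheory.CyclicCofactor.mem_of_inflIrr_mem hM hN0 hcen hb hBbar hsub
          (e1.symm ▸ (ψ : b).2)⟩, Subtype.ext (Subtype.ext e1)⟩⟩
  -- the two halves have the same products
  have hgram1 : ∀ i j, ∑ ψ : {ψ : b // sgn Z (ψ : Cfsg.IrrCharacter K) = 1},
      W ψ i * W ψ j = cbar l m i j := fun i j => by
    rw [← eN.sum_comp, ← R.ρ.sum_comp]
    refine Finset.sum_congr rfl fun p _ => ?_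
    show W (ι (R.ρ p)) i * W (ι (R.ρ p)) j = _
    rw [hWι]
    linear_combination (row l p i * row l p j) * R.sign_sq p
  have hD0 : ∀ i j, ∑ ψ : b, sgn Z (ψ : Cfsg.IrrCharacter K) * (W ψ i : ℂ) * (W ψ j : ℂ) = 0 := by
    set D : Fin l → Fin l → ℂ := fun i j =>
      ∑ ψ : b, sgn Z (ψ : Cfsg.IrrCharacter K) * (W ψ i : ℂ) * (W ψ j : ℂ)
    have hDreal : ∀ i j, conj (D i j) = D i j := fun i j => by
      simp only [D, map_sum, map_mul, conj_sgn hc hZ2, map_intCast]
    have h1 : ∀ i (s : K), ¬ 2 ∣ orderOf s → ∑ j, D i j * conj (Φ j s) = 0 := by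
      intro i s hs
      refine congrFun (hind (fun i => ∑ j, D i j * conj (Φ j s)) fun t ht => ?_) i
      have hsing : 2 ∣ orderOf (Z * s) := by
        have hco : (orderOf Z).Coprime (orderOf s) := by
          rw [hordZ]; exact Nat.prime_two.coprime_iff_not_dvd.2 hs
        rw [(show Commute Z s from (Subgroup.mem_center_iff.1 hc s).symm
          ).orderOf_mul_eq_mul_orderOf_of_coprime hco, hordZ]
        exact dvd_mul_right 2 _
      have e := sum_block_reg_sing hM (intEl_blockIdem hM hb) ht hsing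
      rw [ZStar.Principal.finsum_mem_eq_sum_filter,
        Finset.sum_subtype (p := fun χ => χ ∈ b) _ (fun χ => by simp)] at e
      refine Eq.trans ?_ e
      simp only [val_mul hc, map_mul, conj_sgn hc hZ2]
      rw [Finset.sum_congr rfl (g := fun ψ : b => (∑ i, (W ψ i : ℂ) * Φ i t) *
        (sgn Z (ψ : Cfsg.IrrCharacter K) * conj (∑ j, (W ψ j : ℂ) * Φ j s))) fun ψ _ => by
          rw [hW ψ t ht, hW ψ s hs]]
      simp only [D, map_sum, map_mul, map_intCast, Finset.sum_mul, Finset.mul_sum]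
      conv_lhs => rw [Finset.sum_comm]
      conv_lhs => arg 2; ext j; rw [Finset.sum_comm]
      conv_lhs => rw [Finset.sum_comm]
      exact Finset.sum_congr rfl fun ψ _ => Finset.sum_congr rfl fun j _ =>
        Finset.sum_congr rfl fun i _ => by ring
    intro i j
    refine congrFun (hind (fun j => D i j) fun s hs => ?_) j
    have := congrArg conj (h1 i s hs)
    simpa [map_sum, hDreal] using this
  have hgramF : ∀ i j, ∑ ψ : {ψ : b // sgn Z (ψ : Cfsg.IrrCharacter K) = -1},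
      W ψ i * W ψ j = cbar l m i j := fun i j => by
    rw [← hgram1 i j]
    apply Int.cast_injective (α := ℂ)
    have e := hD0 i j
    rw [sum_sign_split hc hZ2] at e
    have e1 : ∀ ψ : {ψ : b // sgn Z (ψ : Cfsg.IrrCharacter K) = 1},
        sgn Z ((ψ : b) : Cfsg.IrrCharacter K) * (W ψ i : ℂ) * (W ψ j : ℂ) =
          ((W ψ i * W ψ j : ℤ) : ℂ) := fun ψ => by rw [ψ.2]; push_cast; ring
    have e2 : ∀ ψ : {ψ : b // sgn Z (ψ : Cfsg.IrrCharacter K) = -1},
        sgn Z ((ψ : b) : Cfsg.IrrCharacter K) * (W ψ i : ℂ) * (W ψ j : ℂ) =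
          -((W ψ i * W ψ j : ℤ) : ℂ) := fun ψ => by rw [ψ.2]; push_cast; ring
    simp only [e1, e2, Finset.sum_neg_distrib, ← Int.cast_sum] at e
    linear_combination -e
  -- parities
  have hdD : ((2 ^ Cfsg.blockDefect 2 b : ℕ) : ℤ) = 8 * ((m : ℤ) + 1) := by
    rw [← card_defectGroup hM hb hD, h.card, hN4]; push_cast; ring
  have hy : ∀ ψ : b, contrib 2 b (ψ : Cfsg.IrrCharacter K) ψ =
      ((yv (m : ℤ) (W ψ) (W ψ) : ℤ) : ℂ) := fun ψ => by
    refine contrib_eq_form hM hb W Φ (fun χ s hs => hW χ s hs) hind (smat l (m : ℤ))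
      (fun i j => ?_) ψ ψ
    have hsum : ∀ i k, ∑ χ : b, W χ i * W χ k = 2 * cbar l m i k := fun i k => by
      rw [sum_sign_split hc hZ2, hgram1, hgramF]; ring
    simp only [hsum, mul_assoc, ← Finset.mul_sum]
    rw [cbar_smat hl, hdD]
    split_ifs <;> ring
  have heven : ∀ ψ : {ψ : b // sgn Z (ψ : Cfsg.IrrCharacter K) = -1},
      2 ∣ yv (m : ℤ) (W ψ) (W ψ) := fun ψ => by
    by_contra hn
    exact height_ne_zero hM hmax h hc (ψ : b).2 ψ.2
      ((height_zero_iff hM hb (ψ : b).2 (hy ψ)).2 hn)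
  have hne : ∀ ψ : {ψ : b // sgn Z (ψ : Cfsg.IrrCharacter K) = -1}, W ψ ≠ 0 := fun ψ e => by
    refine irr_one_ne_zero ((ψ : b) : Cfsg.IrrCharacter K).2 ?_
    rw [hW (ψ : b) 1 (by simp), e]
    simp
  -- enough of them
  have hcardF : m + l ≤ Fintype.card {ψ : b // sgn Z (ψ : Cfsg.IrrCharacter K) = -1} := by
    obtain ⟨u, c, hc0, hu1, hureg, hugram⟩ := exists_orth_cols hM hmax h hc hN4
    have hrowu : ∀ i k, ∑ ψ : {ψ : b // sgn Z (ψ : Cfsg.IrrCharacter K) = -1},
        u i ψ * (W ψ k : ℂ) = 0 := by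
      intro i k
      refine congrFun (hind (fun k => ∑ ψ : {ψ : b // sgn Z (ψ : Cfsg.IrrCharacter K) = -1},
        u i ψ * (W ψ k : ℂ)) fun s hs => ?_) k
      refine Eq.trans ?_ (hureg i s hs)
      rw [sum_sign_split hc hZ2 (fun ψ : b => u i ψ * ((ψ : Cfsg.IrrCharacter K) : K → ℂ) s),
        Finset.sum_eq_zero (s := (Finset.univ : Finset {ψ : b // sgn Z (ψ : Cfsg.IrrCharacter K) = 1}))
          fun ψ _ => by rw [hu1 i ψ ψ.2, zero_mul], zero_add]
      simp only [hW _ s hs, Finset.sum_mul, Finset.mul_sum]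
      rw [Finset.sum_comm]
      exact Finset.sum_congr rfl fun ψ _ => Finset.sum_congr rfl fun j _ => by ring
    have hli : LinearIndependent ℂ (Sum.elim
        (fun i (ψ : {ψ : b // sgn Z (ψ : Cfsg.IrrCharacter K) = -1}) => u i ψ)
        fun j (ψ : {ψ : b // sgn Z (ψ : Cfsg.IrrCharacter K) = -1}) => (W ψ j : ℂ)) := by
      refine Fintype.linearIndependent_iff.2 fun t ht => ?_
      have hsum : ∀ ψ : {ψ : b // sgn Z (ψ : Cfsg.IrrCharacter K) = -1},
          ∑ i, t (Sum.inl i) * u i ψ + ∑ j, t (Sum.inr j) * (W ψ j : ℂ) = 0 := fun ψ => by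
        have := congrFun ht ψ
        rw [Fintype.sum_sum_type] at this
        simpa [Finset.sum_apply] using this
      have hb0 : ∀ k, ∑ j, t (Sum.inr j) * (cbar l m j k : ℂ) = 0 := fun k => by
        have e := Finset.sum_eq_zero (s := Finset.univ)
          fun ψ (_ : ψ ∈ Finset.univ) => mul_eq_zero_of_left (hsum ψ) (W ψ k : ℂ)
        simp only [add_mul, Finset.sum_add_distrib, Finset.sum_mul, mul_assoc] at e
        rw [Finset.sum_comm (s := (Finset.univ : Finset {ψ : b // sgn Z (ψ : Cfsg.IrrCharacter K) = -1}))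
            (t := (Finset.univ : Finset (Fin m))),
          Finset.sum_comm (s := (Finset.univ : Finset {ψ : b // sgn Z (ψ : Cfsg.IrrCharacter K) = -1}))
            (t := (Finset.univ : Finset (Fin l)))] at e
        simp only [← Finset.mul_sum, hrowu, mul_zero, Finset.sum_const_zero, zero_add,
          ← Int.cast_mul, ← Int.cast_sum, hgramF] at e
        exact e
      have hbz : ∀ j, t (Sum.inr j) = 0 := fun j => by
        have e := Finset.sum_eq_zero (s := Finset.univ)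
          fun k (_ : k ∈ Finset.univ) => mul_eq_zero_of_left (hb0 k) (smat l (m : ℤ) k j : ℂ)
        simp only [Finset.sum_mul, mul_assoc] at e
        rw [Finset.sum_comm] at e
        simp only [← Finset.mul_sum, ← Int.cast_mul, ← Int.cast_sum, cbar_smat hl] at e
        simp only [Int.cast_ite, Int.cast_mul, Int.cast_add, Int.cast_natCast, Int.cast_ofNat,
          Int.cast_one, Int.cast_zero, mul_ite, mul_zero, Finset.sum_ite_eq', Finset.mem_univ,
          if_true] at e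
        exact (mul_eq_zero.1 e).resolve_right
          (mul_ne_zero (by norm_num) (by exact_mod_cast Nat.succ_ne_zero m))
      rintro (i | j)
      swap
      · exact hbz j
      simp only [hbz, zero_mul, Finset.sum_const_zero, add_zero] at hsum
      have e := Finset.sum_eq_zero (s := Finset.univ)
        fun ψ (_ : ψ ∈ Finset.univ) => mul_eq_zero_of_left (hsum ψ) (conj (u i ψ))
      simp only [Finset.sum_mul, mul_assoc] at e
      rw [Finset.sum_comm] at e
      have hg : ∀ j, ∑ ψ : {ψ : b // sgn Z (ψ : Cfsg.IrrCharacter K) = -1},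
          u j ψ * conj (u i ψ) = if j = i then c j else 0 := fun j => by
        rw [← hugram j i, sum_sign_split hc hZ2 (fun ψ : b => u j ψ * conj (u i ψ)),
          Finset.sum_eq_zero
            (s := (Finset.univ : Finset {ψ : b // sgn Z (ψ : Cfsg.IrrCharacter K) = 1}))
            fun ψ _ => by rw [hu1 j ψ ψ.2, zero_mul], zero_add]
      simp only [← Finset.mul_sum, hg, mul_ite, mul_zero, Finset.sum_ite_eq', Finset.mem_univ,
        if_true] at e
      exact (mul_eq_zero.1 e).resolve_right (hc0 i)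
    have := hli.fintype_card_le_finrank
    rwa [Fintype.card_sum, Fintype.card_fin, Fintype.card_fin, Module.finrank_fintype_fun_eq_card]
      at this
  obtain ⟨g₁, g₂, hsh, τ, hτ⟩ := classify hl hl2
    (fun ψ : {ψ : b // sgn Z (ψ : Cfsg.IrrCharacter K) = -1} => W ψ) hcardF hgramF heven hne
  set ρ : Pos (m + (m + 1)) g₁ g₂ → b := fun p => match p with
    | .a => ι (R.ρ .a)
    | .b => ι (R.ρ .b)
    | .u => ι (R.ρ .u)
    | .v => ι (R.ρ .v)
    | .x i => Fin.addCases (fun i => ι (R.ρ (.x i))) (fun i => (τ (Sum.inl i) : b)) i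
    | .g i => (τ (Sum.inr (Sum.inl i)) : b)
    | .k i => (τ (Sum.inr (Sum.inr i)) : b) with hρ
  have hsurj : Function.Surjective ρ := by
    intro ψ
    rcases sgn_cases hc hZ2 (ψ : Cfsg.IrrCharacter K) with e | e
    · obtain ⟨θ, hθ⟩ := eN.surjective ⟨ψ, e⟩
      obtain ⟨p, rfl⟩ := R.ρ.surjective θ
      have hp : ι (R.ρ p) = ψ := congrArg Subtype.val hθ
      rcases p with _ | _ | _ | _ | i | i | i
      exacts [⟨.a, hp⟩, ⟨.b, hp⟩, ⟨.u, hp⟩, ⟨.v, hp⟩,
        ⟨.x (Fin.castAdd (m + 1) i), by simp [hρ, hp]⟩, i.elim0, i.elim0]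
    · obtain ⟨p, hp⟩ := τ.surjective ⟨ψ, e⟩
      have hp' : (τ p : b) = ψ := congrArg Subtype.val hp
      rcases p with i | i | i
      exacts [⟨.x (Fin.natAdd m i), by simp [hρ, hp']⟩, ⟨.g i, hp'⟩, ⟨.k i, hp'⟩]
  have hcardb : Fintype.card (Pos (m + (m + 1)) g₁ g₂) = Fintype.card b := by
    have h1 := Fintype.card_congr ((R.ρ.trans eN))
    have h2 := Fintype.card_congr τ
    have h3 := sum_sign_split hc hZ2 (b := b) (fun _ => (1 : ℕ))
    simp only [Finset.sum_const, Finset.card_univ, smul_eq_mul, mul_one] at h3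
    rw [Pos.card_eq] at h1
    simp only [Fintype.card_sum, Fintype.card_fin] at h2
    rw [Pos.card_eq, h3]
    omega
  have hsign : ∀ p, UpTo (W (ρ p)) (row l p) := by
    have hb' : ∀ p, UpTo (W (ι (R.ρ p))) (row l p) := fun p =>
      ⟨R.σ p, R.unit p, fun i => by rw [hWι]; linear_combination (row l p i) * R.sign_sq p⟩
    intro p
    rcases p with _ | _ | _ | _ | i | i | i
    · exact hb' .a
    · exact hb' .b
    · exact hb' .u
    · exact hb' .v
    · refine Fin.addCases (fun i => ?_) (fun i => ?_) i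
      · simp only [hρ, Fin.addCases_left]
        exact hb' (.x i)
      · simp only [hρ, Fin.addCases_right]
        exact hτ (Sum.inl i)
    · exact hτ (Sum.inr (Sum.inl i))
    · exact hτ (Sum.inr (Sum.inr i))
  choose σ hσu hσ using hsign
  have R' : RowModel 2 b (m + (m + 1)) g₁ g₂ l := ⟨Equiv.ofBijective ρ
    ((Fintype.bijective_iff_surjective_and_card ρ).2 ⟨hsurj, hcardb⟩), σ, hσu, Φ,
    fun p s hs => by
      rw [Equiv.ofBijective_apply, hW _ s hs, Finset.mul_sum]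
      refine Finset.sum_congr rfl fun i _ => ?_
      rw [← hσ p i]
      push_cast
      ring, hind⟩
  have hl' : l ≤ 2 := R'.blockRank_eq hl ▸ DihedralRank.rank_le_two_quasi hM hb hD
    h.isQuasiDihedral hc (q ^ (N / 2) : Q).2 hordZ
  rcases hsh with ⟨rfl, rfl, rfl⟩ | ⟨rfl, rfl, rfl⟩ | ⟨rfl, rfl, rfl⟩
  · exact ⟨1, 0, by omega, Or.inl ⟨rfl, rfl⟩, ⟨R'⟩⟩
  · exact ⟨2, 1, le_rfl, Or.inr ⟨rfl, rfl⟩, ⟨R'⟩⟩
  · omega

/-- The columns of the block over the central involution. -/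
theorem local_out [Fintype b] :
    ∃ g, g ≤ 1 ∧ ∃ c₀ : Sel₁ ((N / 4 - 1) + ((N / 4 - 1) + 1)) → b → ℤ,
      IsColsOn M a (q ^ (N / 2)) b (gramA ((N / 4 - 1) + ((N / 4 - 1) + 1)) g) c₀ := by
  classical
  haveI := fact_prime_of_pm hM
  haveI := Fintype.ofFinite K
  haveI := Fintype.ofFinite (Cfsg.IrrCharacter K)
  have hb := hmax.1.2.1
  obtain ⟨l, g, hg, hlg, ⟨R⟩⟩ := local_model hM hmax h hc
  have hs : Shape l 0 g := by
    rcases hlg with ⟨rfl, rfl⟩ | ⟨rfl, rfl⟩
    exacts [Or.inl ⟨rfl, rfl, rfl⟩, Or.inr (Or.inl ⟨rfl, rfl, rfl⟩)]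
  obtain ⟨s, hsR, hs2⟩ := h.split
  have hs1 : s ≠ 1 := fun e => hsR (e ▸ Subgroup.one_mem _)
  obtain ⟨τ, hsum, hwgt, hne, -⟩ := exists_tau hM hmax h hc hsR hs2
  obtain ⟨q₄, hq₄e, hq₄, hNq⟩ := h.exists_quarter
  set m := N / 4 - 1 with hm
  have hmodd : ¬ (2 : ℤ) ∣ (m : ℤ) := by
    obtain ⟨j, hj⟩ := hq₄e
    omega
  have hd : 2 ^ Cfsg.blockDefect 2 b = 8 * (m + 1) := by
    rw [← card_defectGroup hM hb (isDefectGroup_of_maximal hM hmax), h.card]
    omega
  -- heights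
  have hzero : ∀ p, (p = .a ∨ p = .b ∨ p = .u ∨ p = .v) →
      Cfsg.blockHeight 2 b ((R.ρ p : Cfsg.IrrCharacter K) : K → ℂ) = 0 := by
    intro p hp
    refine (height_zero_iff hM hb (R.ρ p).2 (R.contrib_eq hM hb hs hd p p)).2 ?_
    rw [R.sign_sq, one_mul]
    rcases hlg with ⟨rfl, rfl⟩ | ⟨rfl, rfl⟩ <;> rcases hp with rfl | rfl | rfl | rfl <;>
      simp [yv, smat, row, red, Fin.sum_univ_two] <;> omega
  -- the signs of the members of height zero
  have hsq : (τ (R.ρ .a) ^ 2 + τ (R.ρ .b) ^ 2 + τ (R.ρ .u) ^ 2 + τ (R.ρ .v) ^ 2 +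
      (∑ i, τ (R.ρ (.x i)) ^ 2 + (∑ i, τ (R.ρ (.g i)) ^ 2 + ∑ i, τ (R.ρ (.k i)) ^ 2))) = 4 := by
    rw [← hsum, ← R.ρ.sum_comp, Pos.sum_eq]
  have h1 : ∀ p, (p = .a ∨ p = .b ∨ p = .u ∨ p = .v) → 1 ≤ τ (R.ρ p) ^ 2 := fun p hp => by
    have := mul_self_pos.2 (hne _ (hzero p hp))
    rw [sq]; omega
  have hnx := Finset.sum_nonneg (s := Finset.univ) fun i _ => sq_nonneg (τ (R.ρ (.x i)))
  have hnk := Finset.sum_nonneg (s := Finset.univ) fun i _ => sq_nonneg (τ (R.ρ (.k i)))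
  have hga : ∑ i, τ (R.ρ (.g i)) ^ 2 = 0 := by simp
  have ha := h1 .a (Or.inl rfl)
  have hb' := h1 .b (Or.inr (Or.inl rfl))
  have hu := h1 .u (Or.inr (Or.inr (Or.inl rfl)))
  have hv := h1 .v (Or.inr (Or.inr (Or.inr rfl)))
  have h4 : ∀ p, (p = .a ∨ p = .b ∨ p = .u ∨ p = .v) → τ (R.ρ p) = 1 ∨ τ (R.ρ p) = -1 :=
    fun p hp => sq_eq_one_iff.1 (by rcases hp with rfl | rfl | rfl | rfl <;> omega)
  have hx0 : ∀ i, τ (R.ρ (.x i)) = 0 := fun i => pow_eq_zero_iff two_ne_zero |>.1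
    ((Finset.sum_eq_zero_iff_of_nonneg fun i _ => sq_nonneg _).1
      (show ∑ i, τ (R.ρ (.x i)) ^ 2 = 0 by omega) i (Finset.mem_univ i))
  have hk0 : ∀ i, τ (R.ρ (.k i)) = 0 := fun i => pow_eq_zero_iff two_ne_zero |>.1
    ((Finset.sum_eq_zero_iff_of_nonneg fun i _ => sq_nonneg _).1
      (show ∑ i, τ (R.ρ (.k i)) ^ 2 = 0 by omega) i (Finset.mem_univ i))
  have hτa : τ (R.ρ .a) ≠ 0 := hne _ (hzero .a (Or.inl rfl))
  -- orthogonality to the rows
  have hreg : ∀ t : K, ¬ 2 ∣ orderOf t →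
      ∑ χ : b, (τ χ : ℂ) * ((χ : Cfsg.IrrCharacter K) : K → ℂ) t = 0 := by
    intro t ht
    have e := column_regular hM hmax (R.ρ .a).2 hs1 ht
    rw [Finset.sum_subtype (p := fun χ => χ ∈ b) _ (fun χ => by simp)] at e
    rw [Finset.sum_congr rfl (g := fun χ : b => ((τ (R.ρ .a) : ℂ) / 4) *
      ((τ χ : ℂ) * ((χ : Cfsg.IrrCharacter K) : K → ℂ) t)) fun χ _ => by
        rw [hwgt]; push_cast; ring, ← Finset.mul_sum] at e
    exact (mul_eq_zero.1 e).resolve_left
      (div_ne_zero (Int.cast_ne_zero.2 hτa) (by norm_num))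
  have horth : ∀ i, ∑ p, R.σ p * τ (R.ρ p) * row l p i = 0 := by
    intro i
    apply Int.cast_injective (α := ℂ)
    push_cast
    refine congrFun (R.indep (fun i => ∑ p, (R.σ p : ℂ) * (τ (R.ρ p) : ℂ) * (row l p i : ℂ))
      fun t ht => ?_) i
    refine Eq.trans ?_ (hreg t ht)
    rw [← R.ρ.sum_comp]
    simp only [R.value _ ht, Finset.sum_mul, Finset.mul_sum]
    rw [Finset.sum_comm]
    exact Finset.sum_congr rfl fun p _ => Finset.sum_congr rfl fun i _ => by push_cast; ring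
  obtain ⟨R', c, hc', hτ'⟩ := exists_normal hlg R τ h4 hx0 hk0 horth
  obtain ⟨c₀, hk, ho, hgram, hspan⟩ := cols_of_normal hs R' hc' hτ'
  -- the short elements are the conjugates of the reflection
  have hperp : ∀ f : b → ℂ, Perp 2 M a b f s ↔ ∑ χ : b, f χ * (τ χ : ℂ) = 0 := by
    intro f
    have e : ∀ η : b, ∑ χ : b, f χ * wgt 2 M a ((χ : Cfsg.IrrCharacter K) : K → ℂ)
        ((η : Cfsg.IrrCharacter K) : K → ℂ) s =
        (∑ χ : b, f χ * (τ χ : ℂ)) * ((τ η : ℂ) / 4) := fun η => by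
      rw [Finset.sum_mul]
      exact Finset.sum_congr rfl fun χ _ => by rw [hwgt]; push_cast; ring
    refine ⟨fun hf => ?_, fun hf η => by rw [e, hf, zero_mul]⟩
    exact (mul_eq_zero.1 ((e (R.ρ .a)).symm.trans (hf _))).resolve_right
      (div_ne_zero (Int.cast_ne_zero.2 hτa) (by norm_num))
  have hsz : (q ^ (N / 2) : Q) ∉ Subgroup.zpowers s := (h.short_iff hs1).2 ⟨hsR, hs2⟩
  refine ⟨g, hg, c₀, fun i => ⟨hk i, fun v hv1 hv _ => ?_⟩, hgram, fun f hf => ?_⟩
  · obtain ⟨hvR, hv2⟩ := (h.short_iff hv1).1 hv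
    obtain ⟨d, rfl⟩ := h.refl_conj hsR hs2 hvR hv2
    refine ((hperp _).2 (ho i)).fused ⟨(d : K), ?_, eps_conj_top hM hmax s d⟩
    simp
  · refine hspan f hf.1 ((hperp f).1 (hf.2 s hs1 hsz fun hf' => ?_))
    obtain ⟨x, hx, -⟩ := hf'
    exact (short_of_fused hM hmax h hc hsR hs2 hx).1 (Subgroup.npow_mem_zpowers q _)

end Cfsg.Agent.Blocks.Semidihedral
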