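import Mathlib
import Cfsg.Agent.Lib.Blocks.Quaternion.Rows
import Cfsg.Agent.Lib.Blocks.Semidihedral.Signs

/-!
# The contributions of a block whose good combinations follow the model

Every position is a combination of `a`, `b` and the extra position; the contributions, corrected
by the part at the involutions outside the rotations, are the projection orthogonal to the columns.
-/

set_option linter.style.haveILetI false
set_option linter.unusedSectionVars false

namespace Cfsg.Agent.Blocks.Semidihedral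

open Cfsg.Agent.Blocks Cfsg.Agent.Characters Cfsg.Agent.Blocks.Star
open Cfsg.Agent.Blocks.CentralStep Cfsg.Agent.Blocks.Quaternion
open Cfsg.Agent.BlockCharsA Cfsg.Agent.BlockCharsA.Contrib
open scoped ComplexConjugate

universe u

variable {N g : ℕ}

/-- The coordinate at `a`. -/
def cA : Pos N 0 g → ℤ
  | .a => 1
  | .x _ => -1
  | .v => -1
  | _ => 0

/-- The coordinate at `b`. -/
def cB : Pos N 0 g → ℤ
  | .b => 1
  | .x _ => -1
  | .u => -1
  | _ => 0

/-- The coordinate at the extra position. -/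
def cK : Pos N 0 g → ℤ
  | .u => -(g : ℤ)
  | .v => (g : ℤ)
  | .k _ => 1
  | _ => 0

/-- The projection orthogonal to the columns, times the order of the top. -/
def proj (q : ℕ) (r r' : Pos N 0 g) : ℤ :=
  (1 + (2 + (g : ℤ)) * q) * (cA r * cA r' + cB r * cB r') +
    (1 - (2 + (g : ℤ)) * q) * (cA r * cB r' + cB r * cA r') +
    2 * (q : ℤ) * (cA r * cK r' + cK r * cA r') -
    2 * (q : ℤ) * (cB r * cK r' + cK r * cB r') + 4 * (q : ℤ) * (cK r * cK r')

theorem coord_col (s : Sel₁ N) :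
    ∑ r : Pos N 0 g, col (emb s) r * cA r = 0 ∧ ∑ r : Pos N 0 g, col (emb s) r * cB r = 0 ∧
      ∑ r : Pos N 0 g, col (emb s) r * cK r = 0 := by
  rcases g with _ | g <;> rcases s with i | _ | _ <;>
    simp [emb, Pos.sum_eq, col, cA, cB, cK, Finset.sum_ite_eq'] <;>
    first
      | ring
      | (push_cast; ring)

theorem proj_col (q : ℕ) (r : Pos N 0 g) (s : Sel₁ N) :
    ∑ r' : Pos N 0 g, col (emb s) r' * proj q r r' = 0 := by
  obtain ⟨hA, hB, hK⟩ := coord_col (g := g) s
  have e : ∀ r' : Pos N 0 g, col (emb s) r' * proj q r r' =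
      ((1 + (2 + (g : ℤ)) * q) * cA r + (1 - (2 + (g : ℤ)) * q) * cB r + 2 * (q : ℤ) * cK r) *
          (col (emb s) r' * cA r') +
        ((1 + (2 + (g : ℤ)) * q) * cB r + (1 - (2 + (g : ℤ)) * q) * cA r - 2 * (q : ℤ) * cK r) *
          (col (emb s) r' * cB r') +
        (2 * (q : ℤ) * cA r - 2 * (q : ℤ) * cB r + 4 * (q : ℤ) * cK r) *
          (col (emb s) r' * cK r') := fun r' => by rw [proj]; ring
  simp only [e, Finset.sum_add_distrib, ← Finset.mul_sum, hA, hB, hK, mul_zero, add_zero]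

/-- What the three coordinates kill is a combination of the columns. -/
theorem exists_comb_coord (hg : g ≤ 1) (f : Pos N 0 g → ℂ)
    (hA : ∑ r, f r * (cA r : ℂ) = 0) (hB : ∑ r, f r * (cB r : ℂ) = 0)
    (hK : ∑ r, f r * (cK r : ℂ) = 0) :
    ∃ α : Sel₁ N → ℂ, ∀ r, f r = ∑ s, α s * (col (emb s) r : ℂ) := by
  refine ⟨fun s => match s with
    | Sum.inl i => f (.x i)
    | Sum.inr (Sum.inl _) => f .v
    | Sum.inr (Sum.inr _) => f .u - f .v, fun r => ?_⟩
  rw [Fintype.sum_sum_type, Fintype.sum_sum_type]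
  simp only [Finset.univ_unique, Finset.sum_singleton, emb]
  interval_cases g <;> simp [Pos.sum_eq, cA, cB, cK] at hA hB hK <;> cases r with
    | a => simp [col]; linear_combination hA
    | b => simp [col]; linear_combination hB
    | u => simp [col]
    | v => simp [col]
    | x i => simp [col]
    | g i => exact i.elim0
    | k i => first
      | exact i.elim0
      | (simp [col]; rw [Subsingleton.elim i 0]; linear_combination hK)

/-- The projection acts on the coordinates as the order of the top. -/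
theorem proj_coord {m : ℕ} (hg : g ≤ 1) (r : Pos (m + (m + 1)) 0 g) :
    ∑ r', proj (m + 1) r r' * cA r' = 8 * ((m : ℤ) + 1) * cA r ∧
      ∑ r', proj (m + 1) r r' * cB r' = 8 * ((m : ℤ) + 1) * cB r ∧
      ∑ r', proj (m + 1) r r' * cK r' = 8 * ((m : ℤ) + 1) * cK r := by
  have hk : g = 0 → cK r = 0 := by
    rintro rfl
    cases r with
    | k i => exact i.elim0
    | g i => exact i.elim0
    | _ => simp [cK]
  have hAA : ∑ r' : Pos (m + (m + 1)) 0 g, cA r' * cA r' = 2 * (m : ℤ) + 3 := by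
    simp [Pos.sum_eq, cA]; ring
  have hAB : ∑ r' : Pos (m + (m + 1)) 0 g, cA r' * cB r' = 2 * (m : ℤ) + 1 := by
    simp [Pos.sum_eq, cA, cB]; ring
  have hBB : ∑ r' : Pos (m + (m + 1)) 0 g, cB r' * cB r' = 2 * (m : ℤ) + 3 := by
    simp [Pos.sum_eq, cB]; ring
  have hAK : ∑ r' : Pos (m + (m + 1)) 0 g, cA r' * cK r' = -(g : ℤ) := by
    simp [Pos.sum_eq, cA, cK]
  have hBK : ∑ r' : Pos (m + (m + 1)) 0 g, cB r' * cK r' = (g : ℤ) := by
    simp [Pos.sum_eq, cB, cK]
  have hKK : ∑ r' : Pos (m + (m + 1)) 0 g, cK r' * cK r' = 3 * (g : ℤ) := by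
    interval_cases g <;> simp [Pos.sum_eq, cK]
  set P₁ : ℤ := (1 + (2 + (g : ℤ)) * (m + 1)) * cA r + (1 - (2 + (g : ℤ)) * (m + 1)) * cB r +
    2 * ((m : ℤ) + 1) * cK r
  set P₂ : ℤ := (1 + (2 + (g : ℤ)) * (m + 1)) * cB r + (1 - (2 + (g : ℤ)) * (m + 1)) * cA r -
    2 * ((m : ℤ) + 1) * cK r
  set P₃ : ℤ := 2 * ((m : ℤ) + 1) * cA r - 2 * ((m : ℤ) + 1) * cB r + 4 * ((m : ℤ) + 1) * cK r
  have e : ∀ (X : Pos (m + (m + 1)) 0 g → ℤ), ∑ r', proj (m + 1) r r' * X r' =
      P₁ * ∑ r', cA r' * X r' + P₂ * ∑ r', cB r' * X r' + P₃ * ∑ r', cK r' * X r' := fun X => by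
    simp only [Finset.mul_sum, ← Finset.sum_add_distrib]
    refine Finset.sum_congr rfl fun r' _ => ?_
    simp only [proj, P₁, P₂, P₃]
    push_cast
    ring
  have hBA : ∑ r' : Pos (m + (m + 1)) 0 g, cB r' * cA r' = 2 * (m : ℤ) + 1 := by
    rw [← hAB]; exact Finset.sum_congr rfl fun _ _ => mul_comm _ _
  have hKA : ∑ r' : Pos (m + (m + 1)) 0 g, cK r' * cA r' = -(g : ℤ) := by
    rw [← hAK]; exact Finset.sum_congr rfl fun _ _ => mul_comm _ _
  have hKB : ∑ r' : Pos (m + (m + 1)) 0 g, cK r' * cB r' = (g : ℤ) := by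
    rw [← hBK]; exact Finset.sum_congr rfl fun _ _ => mul_comm _ _
  rw [e, e, e, hAA, hBA, hKA, hAB, hBB, hKB, hAK, hBK, hKK]
  simp only [P₁, P₂, P₃]
  rcases (show g = 0 ∨ g = 1 by omega) with rfl | rfl
  · rw [hk rfl]
    exact ⟨by push_cast; ring, by push_cast; ring, by push_cast; ring⟩
  · exact ⟨by push_cast; ring, by push_cast; ring, by push_cast; ring⟩

variable {G : Type u} [Group G] [Finite G] {M : Ideal Cfsg.AlgInt}
  {B : Set (Cfsg.IrrCharacter G)} {P : Subgroup G}
  {e : Set (Cfsg.IrrCharacter (Subgroup.centralizer (P : Set G)))} {z s : P}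

/-- The contributions corrected at the involutions are the projection. -/
theorem contrib_eq_proj (hM : Cfsg.IsPModular 2 M) (hmax : Cfsg.IsMaximalBrauerPair 2 M B P e)
    [Fintype B] {m : ℕ} (hg : g ≤ 1) (hd : 2 ^ Cfsg.blockDefect 2 B = 8 * (m + 1))
    (hshort : ∀ v : P, v ≠ 1 → z ∉ Subgroup.zpowers v → Fused 2 M e s v)
    (hs1 : s ≠ 1) (hs : z ∉ Subgroup.zpowers s) {τ : B → ℤ}
    (hfix : Fused 2 M e s z → ∀ χ, τ χ = 0)
    (hτ : ¬ Fused 2 M e s z → ∀ χ θ : B, wgt 2 M e ((χ : Cfsg.IrrCharacter G) : G → ℂ)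
      ((θ : Cfsg.IrrCharacter G) : G → ℂ) s = ((τ χ * τ θ : ℤ) : ℂ) / 4)
    {c : Sel₁ (m + (m + 1)) → B → ℤ}
    (hc : IsColsOn M e z B (gramA (m + (m + 1)) g) c) {ρ : Pos (m + (m + 1)) 0 g ≃ B}
    {σ : Pos (m + (m + 1)) 0 g → ℤ} (hσ : ∀ r, σ r = 1 ∨ σ r = -1)
    (hρ : ∀ r i, c i (ρ r) = σ r * col (emb i) r) (r r' : Pos (m + (m + 1)) 0 g) :
    contrib 2 B (ρ r) (ρ r') =
      ((σ r * σ r' * proj (m + 1) r r' - 2 * ((m : ℤ) + 1) * (τ (ρ r) * τ (ρ r')) : ℤ) : ℂ) := by
  classical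
  haveI := Fintype.ofFinite G
  haveI := Fintype.ofFinite (Cfsg.IrrCharacter G)
  have hb := hmax.1.2.1
  set χ : B := ρ r
  set D : ℂ := 8 * ((m : ℂ) + 1) with hD
  set Y : B → ℂ := fun θ => contrib 2 B (χ : Cfsg.IrrCharacter G) θ +
    2 * ((m : ℂ) + 1) * ((τ χ : ℂ) * (τ θ : ℂ)) with hY
  have hdC : ((2 ^ Cfsg.blockDefect 2 B : ℕ) : ℂ) = D := by rw [hd, hD]; push_cast; ring
  have hsq : ∀ r, (σ r : ℂ) * (σ r : ℂ) = 1 := fun r => by
    rcases hσ r with e' | e' <;> simp [e']
  have hreg : ∀ η : B, ∀ v : P, v ≠ 1 → ∀ t : G, ¬ 2 ∣ orderOf t →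
      ∑ θ : B, wgt 2 M e ((η : Cfsg.IrrCharacter G) : G → ℂ)
        ((θ : Cfsg.IrrCharacter G) : G → ℂ) v * ((θ : Cfsg.IrrCharacter G) : G → ℂ) t = 0 :=
    fun η v hv t ht => by
      rw [← column_regular hM hmax η.2 hv ht,
        Finset.sum_subtype (p := fun θ => θ ∈ B) _ (fun θ => by simp)]
  have hτw : ∀ θ : B, 2 * ((m : ℂ) + 1) * ((τ χ : ℂ) * (τ θ : ℂ)) =
      if Fused 2 M e s z then 0 else D * wgt 2 M e ((χ : Cfsg.IrrCharacter G) : G → ℂ)
        ((θ : Cfsg.IrrCharacter G) : G → ℂ) s := fun θ => by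
    split_ifs with h
    · rw [hfix h χ]; simp
    · rw [hτ h, hD]; push_cast; ring
  -- one difference is good
  have hgood : Good M e z B fun θ => (if θ = χ then D else 0) - Y θ := by
    refine ⟨fun t ht => ?_, fun v hv1 hv hvz η => ?_⟩
    · simp only [hY, hτw, sub_mul, add_mul, Finset.sum_sub_distrib, Finset.sum_add_distrib,
        sum_contrib_mul hM hb χ.2 ht, hdC]
      rw [show ∑ θ : B, (if θ = χ then D else 0) * ((θ : Cfsg.IrrCharacter G) : G → ℂ) t =
        D * ((χ : Cfsg.IrrCharacter G) : G → ℂ) t by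
          simp [ite_mul, Finset.sum_ite_eq']]
      split_ifs
      · simp
      · simp only [mul_assoc, ← Finset.mul_sum, hreg χ s hs1 t ht, mul_zero, add_zero, sub_self]
    · have hsv := hshort v hv1 hv
      have hnz : ¬ Fused 2 M e s z := fun h => hvz (hsv.symm.trans h)
      have h1 : ∀ t : G, ¬ 2 ∣ orderOf t → ∑ θ : B, conj (((θ : Cfsg.IrrCharacter G) : G → ℂ) t) *
          wgt 2 M e ((θ : Cfsg.IrrCharacter G) : G → ℂ)
            ((η : Cfsg.IrrCharacter G) : G → ℂ) v = 0 := fun t ht => by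
        have e0 := congrArg conj (hreg η v hv1 t ht)
        rw [map_sum, map_zero] at e0
        rw [← e0]
        exact Finset.sum_congr rfl fun θ _ => by rw [map_mul, conj_wgt, mul_comm]
      have h2 : ∑ θ : B, contrib 2 B (χ : Cfsg.IrrCharacter G) θ *
          wgt 2 M e ((θ : Cfsg.IrrCharacter G) : G → ℂ)
            ((η : Cfsg.IrrCharacter G) : G → ℂ) v = 0 := by
        simp only [contrib, regSum_eq_sum, Finset.mul_sum, Finset.sum_mul]
        rw [Finset.sum_comm]
        refine Finset.sum_eq_zero fun t _ => ?_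
        by_cases ht : 2 ∣ orderOf t
        · simp [ht]
        · simp only [ht, not_false_eq_true, if_true, mul_assoc, ← Finset.mul_sum, h1 t ht, mul_zero]
      simp only [hY, hτw, if_neg hnz, sub_mul, add_mul, Finset.sum_sub_distrib,
        Finset.sum_add_distrib, h2, zero_add, mul_assoc, ← Finset.mul_sum]
      rw [wgt_mul_wgt hM hmax (irr_isClassFunction _) (irr_isClassFunction _), if_pos hsv]
      rw [show ∑ θ : B, (if θ = χ then D else 0) * wgt 2 M e
          ((θ : Cfsg.IrrCharacter G) : G → ℂ) ((η : Cfsg.IrrCharacter G) : G → ℂ) v =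
        D * wgt 2 M e ((χ : Cfsg.IrrCharacter G) : G → ℂ)
          ((η : Cfsg.IrrCharacter G) : G → ℂ) v by simp [ite_mul, Finset.sum_ite_eq'],
        wgt_fused hsv (irr_isClassFunction _) (irr_isClassFunction _), sub_self]
  obtain ⟨α, hα⟩ := hc.span _ hgood
  -- the other difference
  obtain ⟨β, hβ⟩ := exists_comb_coord hg
    (fun r'' => (if r'' = r then D else 0) - (proj (m + 1) r r'' : ℂ))
    (by
      simp only [sub_mul, Finset.sum_sub_distrib, ite_mul, zero_mul, Finset.sum_ite_eq',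
        Finset.mem_univ, if_true, hD]
      have := congrArg (fun x : ℤ => (x : ℂ)) (proj_coord hg r).1
      push_cast at this
      rw [this, sub_self])
    (by
      simp only [sub_mul, Finset.sum_sub_distrib, ite_mul, zero_mul, Finset.sum_ite_eq',
        Finset.mem_univ, if_true, hD]
      have := congrArg (fun x : ℤ => (x : ℂ)) (proj_coord hg r).2.1
      push_cast at this
      rw [this, sub_self])
    (by
      simp only [sub_mul, Finset.sum_sub_distrib, ite_mul, zero_mul, Finset.sum_ite_eq',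
        Finset.mem_univ, if_true, hD]
      have := congrArg (fun x : ℤ => (x : ℂ)) (proj_coord hg r).2.2
      push_cast at this
      rw [this, sub_self])
  set Z : B → ℂ := fun θ =>
    Y θ - (σ r : ℂ) * (σ (ρ.symm θ) : ℂ) * (proj (m + 1) r (ρ.symm θ) : ℂ) with hZ
  have hZspan : ∀ θ, Z θ = ∑ i, ((σ r : ℂ) * β i - α i) * (c i θ : ℂ) := by
    intro θ
    obtain ⟨t, rfl⟩ := ρ.surjective θ
    have e1 := hα (ρ t)
    have e2 := hβ t
    simp only [χ, ρ.injective.eq_iff, hρ, Int.cast_mul] at e1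
    simp only [sub_mul, Finset.sum_sub_distrib, hρ, Int.cast_mul, hZ, Equiv.symm_apply_apply]
    rw [← e1]
    rw [show ∑ i, (σ r : ℂ) * β i * ((σ t : ℂ) * (col (emb i) t : ℂ)) =
      (σ r : ℂ) * (σ t : ℂ) * ∑ i, β i * (col (emb i) t : ℂ) by
        rw [Finset.mul_sum]; exact Finset.sum_congr rfl fun i _ => by ring, ← e2]
    by_cases h : t = r
    · subst h
      simp only [if_true]
      linear_combination -D * hsq t
    · simp only [if_neg h]
      ring
  have hZorth : ∀ i, ∑ θ : B, (c i θ : ℂ) * Z θ = 0 := by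
    intro i
    simp only [hZ, mul_sub, Finset.sum_sub_distrib]
    have hp : ∑ θ : B, (c i θ : ℂ) *
        ((σ r : ℂ) * (σ (ρ.symm θ) : ℂ) * (proj (m + 1) r (ρ.symm θ) : ℂ)) = 0 := by
      rw [← ρ.sum_comp]
      have e0 := congrArg (fun x : ℤ => (σ r : ℂ) * (x : ℂ)) (proj_col (m + 1) r i)
      simp only [Int.cast_sum, Int.cast_mul, Finset.mul_sum, Int.cast_zero, mul_zero] at e0
      refine Eq.trans (Finset.sum_congr rfl fun t _ => ?_) e0
      rw [Equiv.symm_apply_apply, hρ, Int.cast_mul]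
      linear_combination ((σ r : ℂ) * (col (emb i) t : ℂ) * (proj (m + 1) r t : ℂ)) * hsq t
    have hk : ∀ t : G, ¬ 2 ∣ orderOf t →
        ∑ θ : B, (c i θ : ℂ) * conj (((θ : Cfsg.IrrCharacter G) : G → ℂ) t) = 0 := fun t ht => by
      have e0 := congrArg conj ((hc.good i).1 t ht)
      rw [map_sum, map_zero] at e0
      rw [← e0]
      exact Finset.sum_congr rfl fun θ _ => by rw [map_mul, map_intCast]
    have h2 : ∑ θ : B, (c i θ : ℂ) * contrib 2 B (χ : Cfsg.IrrCharacter G) θ = 0 := by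
      simp only [contrib, regSum_eq_sum, Finset.mul_sum]
      rw [Finset.sum_comm]
      refine Finset.sum_eq_zero fun t _ => ?_
      by_cases ht : 2 ∣ orderOf t
      · simp [ht]
      · simp only [ht, not_false_eq_true, if_true]
        rw [Finset.sum_congr rfl (g := fun θ : B => ((2 ^ Cfsg.blockDefect 2 B : ℕ) : ℂ) /
            (Nat.card G : ℂ) * ((χ : Cfsg.IrrCharacter G) : G → ℂ) t *
            ((c i θ : ℂ) * conj (((θ : Cfsg.IrrCharacter G) : G → ℂ) t))) fun θ _ => by ring,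
          ← Finset.mul_sum, hk t ht, mul_zero]
    rw [hp, sub_zero]
    simp only [hY, hτw]
    simp only [mul_add, Finset.sum_add_distrib, h2, zero_add]
    by_cases h : Fused 2 M e s z
    · simp [h]
    · have h0 := congrArg conj ((hc.good i).2 s hs1 hs h χ)
      rw [map_sum, map_zero] at h0
      simp only [if_neg h]
      rw [Finset.sum_congr rfl (g := fun θ : B => D * conj ((c i θ : ℂ) *
        wgt 2 M e ((θ : Cfsg.IrrCharacter G) : G → ℂ) ((χ : Cfsg.IrrCharacter G) : G → ℂ) s))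
        fun θ _ => by rw [map_mul, map_intCast, conj_wgt]; ring, ← Finset.mul_sum, h0, mul_zero]
  have hzero : Z (ρ r') = 0 := by
    have e0 : ∑ θ : B, conj (Z θ) * Z θ = 0 := by
      rw [Finset.sum_congr rfl (g := fun θ => ∑ i, conj ((σ r : ℂ) * β i - α i) *
        ((c i θ : ℂ) * Z θ)) fun θ _ => by
          conv_lhs => arg 1; rw [hZspan θ, map_sum]
          rw [Finset.sum_mul]
          exact Finset.sum_congr rfl fun i _ => by rw [map_mul, map_intCast]; ring,
        Finset.sum_comm]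
      exact Finset.sum_eq_zero fun i _ => by rw [← Finset.mul_sum, hZorth i, mul_zero]
    simp only [← Complex.normSq_eq_conj_mul_self, ← Complex.ofReal_sum, Complex.ofReal_eq_zero] at e0
    exact Complex.normSq_eq_zero.1 ((Finset.sum_eq_zero_iff_of_nonneg
      fun θ _ => Complex.normSq_nonneg (Z θ)).1 e0 (ρ r') (Finset.mem_univ _))
  simp only [hZ, hY, ρ.symm_apply_apply] at hzero
  push_cast
  linear_combination hzero

end Cfsg.Agent.Blocks.Semidihedral
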