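import Mathlib
import Cfsg.Agent.Lib.Blocks.Quaternion.Lattice
import Cfsg.Agent.Lib.Blocks.Semidihedral.Signs

/-!
# Integral vectors with the products of the columns `V`, `C` and one `H`
-/

namespace Cfsg.Agent.Blocks.Semidihedral

open Cfsg.Agent.Blocks Cfsg.Agent.Blocks.Quaternion

variable {α : Type*} [Fintype α] [DecidableEq α]

/-- Vectors with the products of the columns follow the model. -/
theorem lattice {M g : ℕ} (hM : Odd M) (hg : g ≤ 1) {c : Sel₁ M → α → ℤ}
    (hgram : ∀ s t, ∑ x, c s x * c t x = gramA M g s t)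
    {δ : α → ℝ} (hδ : ∀ t, δ t ≠ 0) (hperp : ∀ s, ∑ t, (c s t : ℝ) * δ t = 0)
    (hcover : ∀ t, ∃ s, c s t ≠ 0) :
    ∃ (ρ : Pos M 0 g ≃ α) (σ : Pos M 0 g → ℤ), (∀ q, σ q = 1 ∨ σ q = -1) ∧
      ∀ q s, c s (ρ q) = σ q * col (emb s) q := by
  classical
  set cV : Fin M → α → ℤ := fun i => c (Sum.inl i) with hcV
  set cs : α → ℤ := c (Sum.inr (Sum.inl ())) with hcsd
  set h := c (Sum.inr (Sum.inr ())) with hhd
  have hss : ∑ t, cs t ^ 2 = 4 := by
    simp only [sq]; exact (hgram _ _).trans gram_CC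
  have hns : ∀ t, cs t = 0 ∨ cs t = 1 ∨ cs t = -1 := by
    intro t
    have h1 := Finset.single_le_sum (f := fun t => cs t ^ 2) (fun _ _ => sq_nonneg _)
      (Finset.mem_univ t)
    rw [hss] at h1
    have h2 : |cs t| ≤ 2 := abs_le_of_sq_le_sq (by norm_num; exact h1) (by norm_num)
    rw [abs_le] at h2
    by_contra hcon
    have h3 : cs t ^ 2 = 4 := by
      rcases (show cs t = 2 ∨ cs t = -2 by omega) with e | e <;> simp [e]
    have h4 : ∀ x, x ≠ t → cs x = 0 := fun x hx => by
      have h5 := Finset.sum_le_sum_of_subset_of_nonneg (Finset.subset_univ ({x, t} : Finset α))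
        (f := fun t => cs t ^ 2) fun t _ _ => sq_nonneg _
      rw [Finset.sum_pair hx, hss, h3] at h5
      exact pow_eq_zero_iff two_ne_zero |>.1 (le_antisymm (by linarith) (sq_nonneg _))
    have h6 := hperp (Sum.inr (Sum.inl ()))
    rw [Finset.sum_eq_single t (fun x _ hx => by
      rw [show c (Sum.inr (Sum.inl ())) x = 0 from h4 x hx, Int.cast_zero, zero_mul]) (by simp)]
      at h6
    rcases mul_eq_zero.1 h6 with e | e
    · have : cs t = 0 := Int.cast_eq_zero.1 e
      omega
    · exact hδ t e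
  have hcc : ∀ i j, ∑ t, cV i t * cV j t = 2 + if i = j then 1 else 0 := fun i j =>
    (hgram _ _).trans (gram_VV i j)
  have hcs : ∀ i, ∑ t, cV i t * cs t = 2 := fun i => (hgram _ _).trans (gram_VC i)
  have hh : ∀ i, ∑ t, cV i t * h t = 1 := fun i => (hgram _ _).trans (gram_VH i true)
  have hsh : ∑ t, cs t * h t = 2 := (hgram _ _).trans (gram_CH true)
  have hn : ∑ t, h t ^ 2 = 2 + (g : ℤ) := by
    simp only [sq]; exact (hgram _ _).trans gram_H2
  obtain ⟨hE, hT⟩ := no_exotic hδ (fun i => hperp (Sum.inl i)) (hperp (Sum.inr (Sum.inl ())))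
    (show ∑ t, h t ^ 2 ≤ 3 by rw [hn]; omega) hh hsh
  obtain ⟨F⟩ := ((trichotomy hM hcc hss hcs hns).resolve_right (not_or.2 ⟨hE, hT⟩))
  have hMpos : 0 < M := by obtain ⟨k, hk⟩ := hM; omega
  obtain ⟨p₁, q₁, H₁⟩ := exists_isH hδ (fun i => hperp (Sum.inl i))
    (hperp (Sum.inr (Sum.inl ()))) F hMpos hg (hperp (Sum.inr (Sum.inr ()))) hn hh hsh
  -- rename so that it goes through `b` and `u`
  obtain ⟨F, H⟩ : ∃ F : Frame cV cs, IsH F h .b .u g := by
    rcases H₁.hp with rfl | rfl <;> rcases H₁.hq with rfl | rfl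
    · exact ⟨F.swapAB, by simpa using H₁.swapAB⟩
    · exact ⟨F.swapAB.swapUV, by simpa using H₁.swapAB.swapUV⟩
    · exact ⟨F, H₁⟩
    · exact ⟨F.swapUV, by simpa using H₁.swapUV⟩
  obtain ⟨f, hf, hf'⟩ := exists_points hg H.out
  haveI : Subsingleton (Fin g) := Fin.subsingleton_iff_le_one.2 hg
  set ρ : Pos M 0 g → α := fun r => match r with
    | .a => F.ρ .a
    | .b => F.ρ .b
    | .u => F.ρ .u
    | .v => F.ρ .v
    | .x i => F.ρ (.x i)
    | .g i => i.elim0
    | .k i => f i with hρ
  have hbij : Function.Bijective ρ := by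
    refine ⟨?_, fun t => ?_⟩
    · have ne1 : ∀ i r, f i ≠ F.ρ r := fun i r => F.ne_out (hf i).1 r
      rintro (_ | _ | _ | _ | i | i | i) (_ | _ | _ | _ | j | j | j) e <;>
        first
          | exact i.elim0
          | exact j.elim0
          | rfl
          | (simp only [hρ] at e
             first
              | exact absurd e (ne1 _ _)
              | exact absurd e.symm (ne1 _ _)
              | exact congrArg Pos.k (Subsingleton.elim _ _)
              | exact congrArg Pos.x (Pos.x.inj (F.inj e))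
              | exact absurd (F.inj e) (by simp))
    · by_cases ht : t ∈ F.out
      · obtain ⟨s, hs⟩ := hcover t
        rcases s with i | _ | _
        · exact absurd (F.c_out ht) hs
        · exact absurd (F.cs_out ht) hs
        · obtain ⟨i, hi⟩ := hf' t ht hs
          exact ⟨.k i, hi⟩
      · rw [F.mem_out] at ht
        push Not at ht
        obtain ⟨r, rfl⟩ := ht
        rcases r with _ | _ | _ | _ | i | i | i
        exacts [⟨.a, rfl⟩, ⟨.b, rfl⟩, ⟨.u, rfl⟩, ⟨.v, rfl⟩, ⟨.x i, rfl⟩, i.elim0, i.elim0]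
  set σ : Pos M 0 g → ℤ := fun r => match r with
    | .k i => h (f i)
    | r => F.σ (ρ r) with hσ
  refine ⟨Equiv.ofBijective ρ hbij, σ, fun r => ?_, fun r s => ?_⟩
  · rcases r with _ | _ | _ | _ | j | j | j <;> simp only [hσ]
    case g => exact j.elim0
    case k => exact (hf j).2
    all_goals exact F.unit _
  rw [Equiv.ofBijective_apply]
  rcases r with _ | _ | _ | _ | j | j | j
  case g => exact j.elim0
  all_goals simp only [hρ, hσ]
  case k =>
    rcases s with i | ⟨⟩ | ⟨⟩
    · rw [show c (Sum.inl i) (f j) = 0 from F.c_out (hf j).1]; simp [emb, col]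
    · rw [show c (Sum.inr (Sum.inl ())) (f j) = 0 from F.cs_out (hf j).1]; simp [emb, col]
    · simp [emb, col, hhd]
  all_goals
    rcases s with i | ⟨⟩ | ⟨⟩
    · rw [show c (Sum.inl i) = cV i from rfl, F.c_apply]
      simp [emb, col]
    · rw [show c (Sum.inr (Sum.inl ())) = cs from rfl, F.cs_apply]
      simp [emb, col]
    · rw [show c (Sum.inr (Sum.inr ())) = h from rfl, H.apply]
      simp [emb, col]

end Cfsg.Agent.Blocks.Semidihedral
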