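import Mathlib
import Cfsg.Agent.Lib.Blocks.Quaternion.Transfer
import Cfsg.Agent.Lib.Blocks.Semidihedral.Signs

/-!
# The good combinations of a block, from the centraliser of the central involution

When every element of the top either generates the involution `z` or is one of a single class of
involutions, induction from the centraliser of `z` is an isometry from the combinations of the
block at `z` without part at these involutions onto the good combinations of the block.
-/

set_option linter.style.haveILetI false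
set_option linter.unusedSectionVars false

namespace Cfsg.Agent.Blocks.Semidihedral

open Cfsg.Agent.Blocks Cfsg.Agent.Characters Cfsg.Agent.Blocks.Star
open Cfsg.Agent.Blocks.CentralStep Cfsg.Agent.Blocks.Quaternion
open Cfsg.Agent.BlockCharsA Cfsg.Agent.BlockCharsA.BrauerPairs Cfsg.Agent.BlockCharsA.PairConj
open Cfsg.Agent.BlockCharsA.PairReceptive
open MonoidAlgebra
open scoped ComplexConjugate

universe u

variable {G : Type u} [Group G] [Finite G] {M : Ideal Cfsg.AlgInt}
  {B : Set (Cfsg.IrrCharacter G)} {P : Subgroup G}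
  {e : Set (Cfsg.IrrCharacter (Subgroup.centralizer (P : Set G)))} {z : P}
  {b : Set (Cfsg.IrrCharacter (CU (z : G)))}
  {a : Set (Cfsg.IrrCharacter (Subgroup.centralizer (top' P (z : G) : Set (CU (z : G)))))}

/-- The element of the top, inside the centraliser. -/
def upz (hz : (z : G) ∈ Subgroup.centralizer (P : Set G)) (v : P) : top' P (z : G) :=
  ⟨⟨(v : G), top_le z hz v.2⟩, v.2⟩

theorem upz_downP (hz : (z : G) ∈ Subgroup.centralizer (P : Set G)) (w : top' P (z : G)) :
    upz hz (downP w) = w := rfl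

/-- Long and short elements are the same downstairs. -/
theorem long_iff (hz : (z : G) ∈ Subgroup.centralizer (P : Set G)) (v : P) :
    upz hz z ∈ Subgroup.zpowers (upz hz v) ↔ z ∈ Subgroup.zpowers v := by
  simp only [Subgroup.mem_zpowers_iff]
  refine exists_congr fun k => ⟨fun e' => Subtype.ext ?_, fun e' => Subtype.ext (Subtype.ext ?_)⟩
  · have := congrArg (fun w : top' P (z : G) => ((w : CU (z : G)) : G)) e'
    simpa [upz] using this
  · simpa [upz] using congrArg (Subtype.val : P → G) e'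

theorem upz_ne_one (hz : (z : G) ∈ Subgroup.centralizer (P : Set G)) {v : P} (hv : v ≠ 1) :
    upz hz v ≠ 1 := fun e' => hv (Subtype.ext
  (congrArg (fun w : top' P (z : G) => ((w : CU (z : G)) : G)) e'))

/-- The setting. -/
structure Setting (M : Ideal Cfsg.AlgInt) (B : Set (Cfsg.IrrCharacter G)) (P : Subgroup G)
    (e : Set (Cfsg.IrrCharacter (Subgroup.centralizer (P : Set G)))) (z : P)
    (b : Set (Cfsg.IrrCharacter (CU (z : G))))
    (a : Set (Cfsg.IrrCharacter (Subgroup.centralizer (top' P (z : G) : Set (CU (z : G)))))) :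
    Prop where
  hM : Cfsg.IsPModular 2 M
  hmax : Cfsg.IsMaximalBrauerPair 2 M B P e
  cen : (z : G) ∈ Subgroup.centralizer (P : Set G)
  ne : z ≠ 1
  sq : z * z = 1
  max : Cfsg.IsMaximalBrauerPair 2 M b (top' P (z : G)) a
  mat : Match (⟨_, a⟩ : Cfsg.BrauerPairIdx (CU (z : G))) ⟨P, e⟩
  invol : ∀ v : P, v ≠ 1 → z ∉ Subgroup.zpowers v → v * v = 1
  one : ∀ v w : P, v ≠ 1 → z ∉ Subgroup.zpowers v → w ≠ 1 → z ∉ Subgroup.zpowers w →
    Fused 2 M a (upz cen v) (upz cen w)
  ex : ∃ v : P, v ≠ 1 ∧ z ∉ Subgroup.zpowers v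

variable (S : Setting M B P e z b a)
include S

theorem Setting.ne' : (z : G) ≠ 1 := fun e' => S.ne (Subtype.ext e')

theorem Setting.sq' : (z : G) * z = 1 := congrArg Subtype.val S.sq

theorem Setting.CU_le {v : P} (hv : z ∈ Subgroup.zpowers v) : CU (v : G) ≤ CU (z : G) :=
  fun x hx => by
  obtain ⟨k, hk⟩ := Subgroup.mem_zpowers_iff.1 hv
  refine mem_CU_of_commute ?_
  rw [← hk, Subgroup.coe_zpow]
  exact (commute_of_mem_CU hx).zpow_left k

theorem Setting.th_local {F : G → ℂ} {v : P} (hv : z ∈ Subgroup.zpowers v) {s : CU (z : G)} :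
    th F (v : G) (eps 2 M e v) (s : G) =
      th (fun c : CU (z : G) => F c) (upz S.cen v : CU (z : G)) (eps 2 M a (upz S.cen v)) s := by
  have e1 : restrEl (CU (z : G)) (eps 2 M e v) = eps 2 M a (upz S.cen v) := el_ext fun t => by
    rw [coeff_restrEl]
    exact (eps_descend S.hM S.hmax S.cen S.max S.mat v (S.CU_le hv) t).symm
  rw [← e1]
  exact th_down F (upz S.cen v : CU (z : G)) s fun g hg =>
    eps_supp S.hM S.hmax fun h => hg (S.CU_le hv h)

theorem Setting.regAt_local {v : P} {s : CU (z : G)} :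
    (s : G) ∈ regAt 2 (v : G) ↔ s ∈ regAt 2 (upz S.cen v : CU (z : G)) := by
  simp only [mem_regAt, Subgroup.orderOf_coe]
  refine and_congr_left fun _ => ⟨fun h => Subtype.ext h.eq, fun h => h.map (CU (z : G)).subtype⟩

theorem Setting.ppt_coe (g : CU (z : G)) :
    ppt S.hM (g : G) = ((ppt S.hM g : CU (z : G)) : G) := by
  obtain ⟨y, hy, hc, hk, hr⟩ := isPPart_ppt S.hM g
  refine ppt_eq S.hM ⟨(y : G), by rw [← Subgroup.coe_mul, hy],
    hc.map (CU (z : G)).subtype, ?_, by rwa [Subgroup.orderOf_coe]⟩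
  rwa [Subgroup.orderOf_coe]

/-- A long witness puts the involution in the cyclic group of the part. -/
theorem Setting.z_mem_of_witness {g x : CU (z : G)} {w : P} (hw : z ∈ Subgroup.zpowers w)
    (e1 : (w : G) = (x : G) * ppt S.hM (g : G) * (x : G)⁻¹) :
    (z : G) ∈ Subgroup.zpowers (ppt S.hM (g : G)) := by
  obtain ⟨k, hk⟩ := Subgroup.mem_zpowers_iff.1 hw
  refine Subgroup.mem_zpowers_iff.2 ⟨k, ?_⟩
  have e2 : (x : G) * ppt S.hM (g : G) ^ k * (x : G)⁻¹ = (z : G) := by
    rw [← conj_zpow, ← e1, ← Subgroup.coe_zpow, hk]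
  rw [mul_inv_eq_iff_eq_mul, (commute_of_mem_CU x.2).eq] at e2
  exact mul_left_cancel e2

/-- No part of a local good combination at a short element. -/
theorem Setting.perp_local [Fintype b] {β : b → ℂ} (hβ : Good M a (upz S.cen z) b β) {v : P}
    (hv1 : v ≠ 1) (hv : z ∉ Subgroup.zpowers v) : Perp 2 M a b β (upz S.cen v) := by
  refine hβ.2 _ (upz_ne_one S.cen hv1) (fun h => hv ((long_iff S.cen v).1 h)) fun hf => ?_
  -- the involution is central downstairs, so alone in its class
  obtain ⟨x, hx, -⟩ := hf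
  have e1 : (z : G) = (x : G) * (v : G) * (x : G)⁻¹ := congrArg Subtype.val hx
  have e2 : (x : G)⁻¹ * (z : G) * (x : G) = (z : G) := by
    rw [mul_assoc, inv_mul_eq_iff_eq_mul]
    exact (commute_of_mem_CU x.2).eq
  have e3 : (x : G)⁻¹ * (z : G) * (x : G) = (v : G) := by
    have := congrArg (fun t => (x : G)⁻¹ * t * (x : G)) e1
    simpa [mul_assoc] using this
  exact hv ((Subtype.ext (e2.symm.trans e3) : z = v) ▸ Subgroup.mem_zpowers _)

/-- Good combinations of the local block live at the elements whose part generates the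
involution. -/
theorem Setting.support [Fintype b] {β : b → ℂ} (hβ : Good M a (upz S.cen z) b β)
    {g : CU (z : G)} (hg : 2 ∣ orderOf g) (hne : expand b β g ≠ 0) :
    (z : G) ∈ Subgroup.zpowers (ppt S.hM (g : G)) := by
  obtain ⟨w, x, s, hw1, hw, hs, hth⟩ := exists_part S.hM S.max β hg hne
  have hv1 : downP w ≠ 1 := fun e' =>
    hw1 (Subtype.ext (Subtype.ext (congrArg (Subtype.val : P → G) e')))
  by_cases hl : z ∈ Subgroup.zpowers (downP w)
  · refine S.z_mem_of_witness (x := x) hl ?_
    rw [S.ppt_coe g]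
    exact congrArg Subtype.val hw
  · exact absurd (perp_iff_th.1 (S.perp_local hβ hv1 hl) s hs) hth

theorem Setting.expand_regular [Fintype b] {β : b → ℂ} (hβ : IsKer 2 b β) {g : CU (z : G)}
    (hg : ¬ 2 ∣ orderOf (g : G)) : expand b β g = 0 :=
  hβ g (by rwa [Subgroup.orderOf_coe] at hg)

theorem Setting.ind_regular [Fintype G] [Fintype b] {β : b → ℂ} (hβ : IsKer 2 b β) {g : G}
    (hg : ¬ 2 ∣ orderOf g) : Cfsg.indFun (CU (z : G)) (expand b β) g = 0 := by
  rw [Cfsg.indFun, Finset.sum_eq_zero fun x _ => ?_, mul_zero]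
  by_cases hy : x⁻¹ * g * x ∈ CU (z : G)
  · rw [show x⁻¹ * g * x = ((⟨_, hy⟩ : CU (z : G)) : G) from rfl,
      CharTheory.IndBasic.extendByZero_coe]
    refine S.expand_regular hβ ?_
    rwa [Subgroup.coe_mk, show x⁻¹ * g * x = MulAut.conj x⁻¹ g by simp [MulAut.conj_apply],
      MulEquiv.orderOf_eq]
  · rw [CharTheory.IndBasic.extendByZero_of_notMem _ _ hy]

/-- Where the part generates the involution induction changes nothing. -/
theorem Setting.ind_apply [Fintype G] [Fintype b] {β : b → ℂ}
    (hβ : Good M a (upz S.cen z) b β) {g : CU (z : G)}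
    (hz : (z : G) ∈ Subgroup.zpowers (ppt S.hM (g : G))) :
    Cfsg.indFun (CU (z : G)) (expand b β) (g : G) = expand b β g := by
  classical
  haveI := Fintype.ofFinite (CU (z : G))
  rw [Cfsg.indFun, Finset.sum_congr rfl (g := fun x : G =>
    if x ∈ CU (z : G) then expand b β g else 0) fun x _ => ?_, ← Finset.sum_filter,
    Finset.sum_const, nsmul_eq_mul, ← mul_assoc]
  · rw [show (Finset.univ.filter fun x : G => x ∈ CU (z : G)).card = Nat.card (CU (z : G)) by
      rw [Nat.card_eq_fintype_card, Fintype.card_of_subtype (p := fun x : G => x ∈ CU (z : G))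
        (Finset.univ.filter fun x : G => x ∈ CU (z : G)) fun x => by simp],
      inv_mul_cancel₀ natCard_ne_zero,
      one_mul]
  by_cases hx : x ∈ CU (z : G)
  · rw [if_pos hx, show x⁻¹ * (g : G) * x = (((⟨x, hx⟩ : CU (z : G))⁻¹ * g * ⟨x, hx⟩ :
      CU (z : G)) : G) by simp, CharTheory.IndBasic.extendByZero_coe]
    conv_rhs => rw [← isClassFunction_expand β g (⟨x, hx⟩ : CU (z : G))⁻¹]
    simp
  rw [if_neg hx]
  by_cases hy : x⁻¹ * (g : G) * x ∈ CU (z : G)
  swap
  · rw [CharTheory.IndBasic.extendByZero_of_notMem _ _ hy]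
  rw [show x⁻¹ * (g : G) * x = ((⟨_, hy⟩ : CU (z : G)) : G) from rfl,
    CharTheory.IndBasic.extendByZero_coe]
  by_contra hne
  set y : CU (z : G) := ⟨_, hy⟩
  have hy2 : 2 ∣ orderOf y := by
    by_contra hn
    exact hne (S.expand_regular hβ.1 (by rwa [Subgroup.orderOf_coe]))
  have hzy := S.support hβ hy2 hne
  have hu : ppt S.hM (y : G) = x⁻¹ * ppt S.hM (g : G) * x⁻¹⁻¹ :=
    ppt_eq S.hM (by
      rw [show (y : G) = x⁻¹ * (g : G) * x⁻¹⁻¹ by simp [y]]
      exact isPPart_conj (isPPart_ppt S.hM _) x⁻¹)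
  have hz' : x⁻¹ * (z : G) * x⁻¹⁻¹ ∈ Subgroup.zpowers (ppt S.hM (y : G)) := by
    obtain ⟨k, hk⟩ := Subgroup.mem_zpowers_iff.1 hz
    exact Subgroup.mem_zpowers_iff.2 ⟨k, by rw [hu, conj_zpow, hk]⟩
  have heq := invol_eq hzy hz' S.ne' (fun e' => S.ne' (conj_eq_one_iff.1 e')) S.sq' (by
    rw [show x⁻¹ * (z : G) * x⁻¹⁻¹ * (x⁻¹ * (z : G) * x⁻¹⁻¹) = x⁻¹ * ((z : G) * z) * x⁻¹⁻¹ by group,
      S.sq']
    simp)
  refine hx (mem_CU_of_commute ?_)
  rw [inv_inv, mul_assoc, eq_inv_mul_iff_mul_eq] at heq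
  exact heq.symm

/-- An induced good combination is orthogonal to what has no part at the long elements. -/
theorem Setting.ind_inner [Fintype G] [Fintype (CU (z : G))] [Fintype b] {β : b → ℂ}
    (hβ : Good M a (upz S.cen z) b β) {Φ : G → ℂ} (hΦ : Cfsg.IsClassFunction G Φ)
    (h0 : ∀ v : P, z ∈ Subgroup.zpowers v → ∀ s ∈ regAt 2 (v : G),
      th Φ (v : G) (eps 2 M e v) s = 0) :
    Cfsg.classInner (Cfsg.indFun (CU (z : G)) (expand b β)) Φ = 0 := by
  classical
  rw [frobenius_reciprocity _ _ hΦ]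
  set F := fun c : CU (z : G) => Φ c with hF
  set Y := expand b fun θ => Cfsg.classInner F ((θ : Cfsg.IrrCharacter (CU (z : G))) :
    CU (z : G) → ℂ) with hY
  have e1 : Cfsg.classInner (expand b β) F = Cfsg.classInner (expand b β) Y := by
    rw [classInner_expand, classInner_expand]
    exact Finset.sum_congr rfl fun θ _ => by rw [hY, coeff_expand]
  rw [e1, classInner_def, Finset.sum_eq_zero fun g _ => ?_, mul_zero]
  by_cases hb0 : expand b β g = 0
  · rw [hb0, zero_mul]
  have hg : 2 ∣ orderOf g := by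
    by_contra hn
    exact hb0 (hβ.1 g hn)
  by_cases h0' : Y g = 0
  · rw [h0', map_zero, mul_zero]
  obtain ⟨w, x, s, hw1, hw, hs, hth⟩ := exists_part S.hM S.max _ hg h0'
  refine absurd ?_ hth
  have hzw : z ∈ Subgroup.zpowers (downP w) := by
    obtain ⟨k, hk⟩ := Subgroup.mem_zpowers_iff.1 (S.support hβ hg hb0)
    refine Subgroup.mem_zpowers_iff.2 ⟨k, Subtype.ext ?_⟩
    have e2 : ((downP w : P) : G) = (x : G) * ppt S.hM (g : G) * (x : G)⁻¹ := by
      rw [S.ppt_coe g]
      exact congrArg Subtype.val hw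
    rw [Subgroup.coe_zpow, e2, conj_zpow, hk, ← (commute_of_mem_CU x.2).eq, mul_inv_cancel_right]
  rw [← th_expand S.hM S.max (fun c a => hΦ _ _) w hs]
  have h2 := S.th_local (F := Φ) hzw (s := s)
  rw [upz_downP] at h2
  rw [hF, ← h2]
  exact h0 _ hzw _ (S.regAt_local.2 hs)

/-- The induced function has no coefficient outside the block. -/
theorem Setting.ind_out [Fintype G] [Fintype (CU (z : G))] [Fintype b] {β : b → ℂ}
    (hβ : Good M a (upz S.cen z) b β) {χ : Cfsg.IrrCharacter G} (hχ : χ ∉ B) :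
    Cfsg.classInner (Cfsg.indFun (CU (z : G)) (expand b β)) (χ : G → ℂ) = 0 :=
  S.ind_inner hβ (irr_isClassFunction χ) fun v _ _ hs => th_out S.hM S.hmax v hχ hs

/-- The product of an induced good combination with one of the local block. -/
theorem Setting.ind_product [Fintype G] [Fintype (CU (z : G))] [Fintype b] {β β' : b → ℂ}
    (hβ : Good M a (upz S.cen z) b β) (hβ' : Good M a (upz S.cen z) b β') :
    Cfsg.classInner (Cfsg.indFun (CU (z : G)) (expand b β))
      (Cfsg.indFun (CU (z : G)) (expand b β')) =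
      Cfsg.classInner (expand b β) (expand b β') := by
  classical
  rw [frobenius_reciprocity _ _ (indFun_isClassFunction _ _), classInner_def, classInner_def]
  congr 1
  refine Finset.sum_congr rfl fun g _ => ?_
  by_cases hb0 : expand b β g = 0
  · rw [hb0, zero_mul, zero_mul]
  have hg : 2 ∣ orderOf g := by
    by_contra hn
    exact hb0 (hβ.1 g hn)
  rw [S.ind_apply hβ' (S.support hβ hg hb0)]

/-- Good combinations go up with their products. -/
theorem Setting.transfer [Fintype b] [Fintype B] {ι : Type*} [Fintype ι] {A : ι → ι → ℤ}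
    {c₀ : ι → b → ℤ} (hc : IsColsOn M a (upz S.cen z) b A c₀) :
    ∃ c : ι → B → ℤ, IsColsOn M e z B A c := by
  classical
  haveI := Fintype.ofFinite G
  haveI := Fintype.ofFinite (CU (z : G))
  haveI := Fintype.ofFinite (Cfsg.IrrCharacter G)
  haveI := Fintype.ofFinite (Cfsg.IrrCharacter (CU (z : G)))
  set F : ι → G → ℂ := fun i =>
    Cfsg.indFun (CU (z : G)) (expand b fun θ => (c₀ i θ : ℂ)) with hFdef
  have hint : ∀ i (χ : B), ∃ n : ℤ,
      Cfsg.classInner (F i) ((χ : Cfsg.IrrCharacter G) : G → ℂ) = (n : ℂ) := by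
    intro i χ
    simp only [hFdef]
    rw [frobenius_reciprocity _ _ (irr_isClassFunction _), classInner_expand]
    have hn := fun θ : b => classInner_gen_int
      (isGen_of_isCharacter (isCharacter_restrict (CU (z : G))
        (irr_isCharacter (χ : Cfsg.IrrCharacter G))))
      (isGen_of_isCharacter (irr_isCharacter (θ : Cfsg.IrrCharacter (CU (z : G)))))
    choose n hn using hn
    refine ⟨∑ θ, c₀ i θ * n θ, ?_⟩
    push_cast
    exact Finset.sum_congr rfl fun θ _ => by rw [hn θ, map_intCast]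
  choose c hcF using hint
  have hexp : ∀ i, F i = expand B fun χ => (c i χ : ℂ) := fun i => by
    have := eq_expand (B := B) (F := F i) (indFun_isClassFunction _ _)
      fun η hη => S.ind_out (hc.good i) hη
    simp only [hcF] at this
    exact this
  have hker : ∀ i, IsKer 2 B fun χ => (c i χ : ℂ) := fun i s hs => by
    have := congrFun (hexp i) s
    simp only [hFdef, S.ind_regular (hc.good i).1 hs, expand] at this
    exact this.symm
  -- no part at the short elements not fused to the involution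
  have hperp : ∀ i, ∀ v : P, v ≠ 1 → z ∉ Subgroup.zpowers v → ¬ Fused 2 M e v z →
      Perp 2 M e B (fun χ => (c i χ : ℂ)) v := by
    intro i v hv1 hv hvz η
    have hΦ : Cfsg.IsClassFunction G
        (theta 2 M e S.hM v ((η : Cfsg.IrrCharacter G) : G → ℂ)) :=
      isClassFunction_star_stable S.hM (stable_etaF v) (irr_isClassFunction _)
    have e0 := S.ind_inner (hc.good i) hΦ fun w hw s hs => by
      rw [theta, th_star S.hM (irr_isClassFunction _) hΦ (orderOf_top S.hM S.hmax w)
        (eps_mem_BI S.hM S.hmax w) hs, hat_self S.hM S.hmax (stable_etaF v), etaF,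
        if_neg fun hf => ?_, zero_mul]
      -- a long element fused to an involution is the involution
      refine hvz ?_
      obtain ⟨x, hx, hε⟩ := id hf
      have hw2 : w * w = 1 := by
        refine Subtype.ext ?_
        have e' : (v : G) * v = 1 := congrArg Subtype.val (S.invol v hv1 hv)
        rw [Subgroup.coe_mul, hx, show x * (v : G) * x⁻¹ * (x * (v : G) * x⁻¹) =
          x * ((v : G) * v) * x⁻¹ by group, e', mul_one, mul_inv_cancel]
        rfl
      have hwz : z = w := Subtype.ext (invol_eq (u := (w : G))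
        (by
          obtain ⟨k, hk⟩ := Subgroup.mem_zpowers_iff.1 hw
          exact Subgroup.mem_zpowers_iff.2 ⟨k, by rw [← Subgroup.coe_zpow, hk]⟩)
        (Subgroup.mem_zpowers _) S.ne' (fun e' => hf.ne_one hv1 (Subtype.ext e')) S.sq'
        (congrArg Subtype.val hw2))
      rwa [← hwz] at hf
    change Cfsg.classInner (F i) _ = 0 at e0
    rw [hexp i, classInner_expand] at e0
    refine Eq.trans ?_ e0
    refine Finset.sum_congr rfl fun χ _ => ?_
    rw [classInner_theta S.hM S.hmax (irr_isClassFunction _) v χ.2, conj_wgt]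
  refine ⟨c, fun i => ⟨hker i, hperp i⟩, fun i j => ?_, fun f hf => ?_⟩
  · apply Int.cast_injective (α := ℂ)
    have e1 : Cfsg.classInner (F i) (F j) = ∑ θ : b, (c₀ i θ : ℂ) * (c₀ j θ : ℂ) := by
      simp only [hFdef]
      rw [S.ind_product (hc.good i) (hc.good j), classInner_expand]
      exact Finset.sum_congr rfl fun θ _ => by rw [coeff_expand, map_intCast]
    have e2 : Cfsg.classInner (F i) (F j) = ∑ χ : B, (c i χ : ℂ) * (c j χ : ℂ) := by
      rw [hexp i, classInner_expand]
      exact Finset.sum_congr rfl fun χ _ => by rw [hcF, map_intCast]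
    rw [← hc.gram i j]
    push_cast
    rw [← e1, ← e2]
  set β : b → ℂ := fun θ => Cfsg.classInner (fun g : CU (z : G) => expand B f g)
    ((θ : Cfsg.IrrCharacter (CU (z : G))) : CU (z : G) → ℂ) with hβdef
  have hres : Cfsg.IsClassFunction (CU (z : G)) fun g : CU (z : G) => expand B f g :=
    fun g a => isClassFunction_expand f (g : G) a
  have hβ : IsKer 2 b β := fun s hs => by
    have e : Cfsg.blockPart b (fun g : CU (z : G) => expand B f g) s =
        ∑ θ : b, β θ * ((θ : Cfsg.IrrCharacter (CU (z : G))) : CU (z : G) → ℂ) s := by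
      rw [Cfsg.blockPart, ZStar.Principal.finsum_mem_eq_sum_filter,
        Finset.sum_subtype (p := fun θ => θ ∈ b) _ (fun θ => by simp)]
      refine Finset.sum_congr rfl fun θ _ => ?_
      simp only [hβdef]
      congr 2
      exact Subsingleton.elim _ _
    rw [← e, blockPart_congr_reg S.hM S.max.1.2.1 (F' := 0) (fun g hg => ?_) hs]
    · rw [Cfsg.blockPart]
      simp [classInner_def]
    · exact hf.1 g (by rwa [Subgroup.orderOf_coe])
  -- take away the part at the short class
  obtain ⟨v₀, hv₀1, hv₀⟩ := S.ex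
  set s₀ := upz S.cen v₀
  set Pβ : b → ℂ := fun θ => ∑ η : b, β η *
    wgt 2 M a ((η : Cfsg.IrrCharacter (CU (z : G))) : CU (z : G) → ℂ)
      ((θ : Cfsg.IrrCharacter (CU (z : G))) : CU (z : G) → ℂ) s₀ with hPβ
  have hPker : IsKer 2 b Pβ := fun t ht => by
    simp only [hPβ, Finset.sum_mul]
    rw [Finset.sum_comm]
    refine Finset.sum_eq_zero fun η _ => ?_
    simp only [mul_assoc, ← Finset.mul_sum]
    have e0 := column_regular S.hM S.max η.2 (upz_ne_one S.cen hv₀1) ht
    rw [Finset.sum_subtype (p := fun θ => θ ∈ b) _ (fun θ => by simp)] at e0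
    rw [e0, mul_zero]
  have hPwgt : ∀ (w : top' P (z : G)) (ξ : b), ∑ θ : b, Pβ θ *
      wgt 2 M a ((θ : Cfsg.IrrCharacter (CU (z : G))) : CU (z : G) → ℂ)
        ((ξ : Cfsg.IrrCharacter (CU (z : G))) : CU (z : G) → ℂ) w =
      if Fused 2 M a s₀ w then ∑ η : b, β η *
        wgt 2 M a ((η : Cfsg.IrrCharacter (CU (z : G))) : CU (z : G) → ℂ)
          ((ξ : Cfsg.IrrCharacter (CU (z : G))) : CU (z : G) → ℂ) s₀ else 0 := by
    intro w ξ
    simp only [hPβ, Finset.sum_mul]
    rw [Finset.sum_comm]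
    simp only [mul_assoc, ← Finset.mul_sum,
      wgt_mul_wgt S.hM S.max (irr_isClassFunction _) (irr_isClassFunction _), mul_ite, mul_zero]
    split_ifs with hw
    · rfl
    · exact Finset.sum_const_zero
  have hPlong : ∀ v : P, z ∈ Subgroup.zpowers v → Perp 2 M a b Pβ (upz S.cen v) := by
    intro v hv ξ
    rw [hPwgt, if_neg fun hf' => ?_]
    -- a short element is not fused to a long one downstairs
    obtain ⟨x, hx, -⟩ := hf'
    have e1 : (v : G) = (x : G) * (v₀ : G) * (x : G)⁻¹ := congrArg Subtype.val hx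
    obtain ⟨k, hk⟩ := Subgroup.mem_zpowers_iff.1 hv
    refine hv₀ (Subgroup.mem_zpowers_iff.2 ⟨k, Subtype.ext ?_⟩)
    have e2 : (x : G) * ((v₀ : G) ^ k) * (x : G)⁻¹ = (z : G) := by
      rw [← conj_zpow, ← e1, ← Subgroup.coe_zpow, hk]
    rw [mul_inv_eq_iff_eq_mul, (commute_of_mem_CU x.2).eq] at e2
    rw [Subgroup.coe_zpow]
    exact mul_left_cancel e2
  set β' : b → ℂ := fun θ => β θ - Pβ θ with hβ'
  have hβ'g : Good M a (upz S.cen z) b β' := by
    refine ⟨fun t ht => ?_, fun w hw1 hw _ => ?_⟩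
    · simp only [hβ', sub_mul, Finset.sum_sub_distrib, hβ t ht, hPker t ht, sub_zero]
    · have hw1' : downP w ≠ 1 := fun e' =>
        hw1 (Subtype.ext (Subtype.ext (congrArg (Subtype.val : P → G) e')))
      have hw' : z ∉ Subgroup.zpowers (downP w) := fun h =>
        hw ((long_iff S.cen (downP w)).2 h)
      have hf0 := S.one v₀ (downP w) hv₀1 hv₀ hw1' hw'
      rw [upz_downP] at hf0
      refine Perp.fused (fun ξ => ?_) hf0
      simp only [hβ', sub_mul, Finset.sum_sub_distrib]
      rw [hPwgt, if_pos (fused_refl _), sub_self]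
  obtain ⟨α, hα⟩ := hc.span β' hβ'g
  refine ⟨α, fun χ => sub_eq_zero.1 ?_⟩
  set d : B → ℂ := fun χ => f χ - ∑ i, α i * (c i χ : ℂ) with hd
  have hdexp : ∀ g, expand B d g = expand B f g - ∑ i, α i * F i g := by
    intro g
    simp only [hexp]
    simp only [expand, hd, sub_mul, Finset.sum_sub_distrib, Finset.sum_mul, Finset.mul_sum,
      mul_assoc]
    rw [Finset.sum_comm]
  -- the parts at the long elements
  have hlong : ∀ v : P, z ∈ Subgroup.zpowers v → Perp 2 M e B d v := by
    intro v hv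
    rw [perp_iff_th]
    intro s hs
    have hsC : s ∈ CU (z : G) := S.CU_le hv (mem_CU_of_commute (mem_regAt.1 hs).1)
    have hs' : (⟨s, hsC⟩ : CU (z : G)) ∈ regAt 2 (upz S.cen v : CU (z : G)) :=
      S.regAt_local.1 hs
    rw [show s = ((⟨s, hsC⟩ : CU (z : G)) : G) from rfl, S.th_local hv]
    set u₁ : CU (z : G) := (upz S.cen v : CU (z : G))
    set ε := eps 2 M a (upz S.cen v)
    set s₁ : CU (z : G) := ⟨s, hsC⟩
    have e1 : (fun g : CU (z : G) => expand B d g) = fun g : CU (z : G) =>
        ∑ o : Option ι, (o.elim 1 fun i => -α i) *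
          (o.elim (fun g : CU (z : G) => expand B f g) (fun i => fun g : CU (z : G) => F i g)) g :=
      funext fun g => by
        rw [Fintype.sum_option, hdexp]
        simp [Finset.sum_neg_distrib, sub_eq_add_neg]
    rw [e1, th_linear, Fintype.sum_option]
    simp only [Option.elim_none, Option.elim_some, one_mul]
    have e2 : ∀ i, th (fun g : CU (z : G) => F i g) u₁ ε s₁ =
        th (expand b fun θ => (c₀ i θ : ℂ)) u₁ ε s₁ := by
      intro i
      have e3 := th_eq_zero_of_section (G := CU (z : G)) S.hM S.max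
        (F := fun g : CU (z : G) => ∑ o : Bool, (if o then (1 : ℂ) else -1) *
          (if o then (fun g : CU (z : G) => F i g) else expand b fun θ => (c₀ i θ : ℂ)) g)
        (fun g a => by
          simp only [Fintype.sum_bool, if_true, if_neg (Bool.false_ne_true)]
          rw [isClassFunction_expand _ g a]
          congr 2
          exact indFun_isClassFunction _ _ (g : G) (a : G))
        (upz S.cen v) (fun c' hc' => ?_) hs'
      · rw [th_linear, Fintype.sum_bool] at e3
        simp only [if_true, if_neg (Bool.false_ne_true), one_mul, neg_one_mul] at e3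
        exact add_neg_eq_zero.1 e3
      · simp only [Fintype.sum_bool, if_true, if_neg (Bool.false_ne_true), one_mul, neg_one_mul]
        obtain ⟨h3, h4⟩ := mem_regAt.1 hc'
        have hz : (z : G) ∈ Subgroup.zpowers (ppt S.hM ((u₁ * c' : CU (z : G)) : G)) := by
          rw [ppt_eq S.hM (g := ((u₁ * c' : CU (z : G)) : G)) (x := (v : G)) ⟨(c' : G), rfl,
            h3.map (CU (z : G)).subtype, orderOf_top S.hM S.hmax v,
            by rwa [Subgroup.orderOf_coe]⟩]
          obtain ⟨k, hk⟩ := Subgroup.mem_zpowers_iff.1 hv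
          exact Subgroup.mem_zpowers_iff.2 ⟨k, by rw [← Subgroup.coe_zpow, hk]⟩
        simp only [hFdef]
        rw [S.ind_apply (hc.good i) hz, add_neg_cancel]
    simp only [e2]
    rw [th_expand S.hM S.max hres _ hs']
    have hP0 := perp_iff_th.1 (hPlong v hv) s₁ hs'
    have e4 : th (expand b β) u₁ ε s₁ = ∑ i, α i * th (expand b fun θ => (c₀ i θ : ℂ)) u₁ ε s₁ := by
      unfold expand at hP0 ⊢
      rw [th_linear] at hP0
      simp only [th_linear, Finset.mul_sum]
      rw [Finset.sum_comm]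
      have hsplit : ∀ θ : b, β θ = Pβ θ + ∑ i, α i * (c₀ i θ : ℂ) := fun θ => by
        rw [← hα θ, hβ']; ring
      simp only [hsplit, add_mul, Finset.sum_add_distrib, Finset.sum_mul, mul_assoc]
      exact add_eq_right.2 hP0
    show th (expand b β) u₁ ε s₁ + _ = 0
    rw [e4]
    simp [Finset.sum_neg_distrib]
  suffices h0 : expand B d = 0 by
    have := coeff_expand d χ
    rw [h0, classInner_def] at this
    simpa using this.symm
  funext g
  by_cases hg : 2 ∣ orderOf g
  swap
  · rw [hdexp, Pi.zero_apply, Finset.sum_eq_zero fun i _ => ?_, sub_zero]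
    · exact hf.1 g hg
    · simp only [hFdef, S.ind_regular (hc.good i).1 hg, mul_zero]
  by_contra hne
  obtain ⟨w, x, s, hw1, -, hs, hth⟩ := exists_part S.hM S.hmax d hg hne
  refine hth (perp_iff_th.1 ?_ s hs)
  by_cases hw : z ∈ Subgroup.zpowers w
  · exact hlong w hw
  by_cases hwz : Fused 2 M e w z
  · exact (hlong z (Subgroup.mem_zpowers z)).fused hwz.symm
  intro η
  simp only [hd, sub_mul, Finset.sum_sub_distrib, Finset.sum_mul, hf.2 w hw1 hw hwz η, zero_sub,
    neg_eq_zero]
  rw [Finset.sum_comm]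
  refine Finset.sum_eq_zero fun i _ => ?_
  simp only [mul_assoc, ← Finset.mul_sum, hperp i w hw1 hw hwz η, mul_zero]

/-- Every member of the block occurs in a combination. -/
theorem Setting.exists_col_ne [Fintype B] {ι : Type*} [Fintype ι] {A : ι → ι → ℤ}
    {c : ι → B → ℤ} (hc : IsColsOn M e z B A c) (χ : B) : ∃ i, c i χ ≠ 0 := by
  classical
  haveI := Fintype.ofFinite G
  haveI := Fintype.ofFinite (Cfsg.IrrCharacter G)
  by_contra hcon
  push Not at hcon
  set f : B → ℂ := fun θ => wgt 2 M e ((χ : Cfsg.IrrCharacter G) : G → ℂ)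
    ((θ : Cfsg.IrrCharacter G) : G → ℂ) z with hfdef
  have hf : Good M e z B f := by
    refine ⟨fun s hs => ?_, fun v _ _ hvz η => ?_⟩
    · rw [← column_regular S.hM S.hmax χ.2 S.ne hs,
        Finset.sum_subtype (p := fun η => η ∈ B) _ (fun η => by simp)]
    · simp only [hfdef]
      rw [wgt_mul_wgt S.hM S.hmax (irr_isClassFunction _) (irr_isClassFunction _),
        if_neg fun h => hvz h.symm]
  obtain ⟨α, hα⟩ := hc.span f hf
  have h0 := hα χ
  simp only [hcon, Int.cast_zero, mul_zero, Finset.sum_const_zero] at h0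
  revert h0
  simp only [hfdef, wgt]
  obtain ⟨s, hs, hne⟩ := exists_th_ne_zero_center S.hM S.hmax S.cen χ.2
  refine div_ne_zero ?_ (Nat.cast_ne_zero.2 Nat.card_pos.ne')
  rw [pairing_self, Ne, Complex.ofReal_eq_zero]
  refine (Finset.sum_pos' (fun _ _ => sq_nonneg _) ⟨s, hs, ?_⟩).ne'
  exact pow_pos (norm_pos_iff.2 hne) 2

end Cfsg.Agent.Blocks.Semidihedral
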