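import Mathlib
import Cfsg.Agent.Lib.Blocks.Semidihedral.Central
import Cfsg.Agent.Lib.Blocks.Semidihedral.Transfer
import Cfsg.Agent.Lib.Blocks.Semidihedral.Lattice
import Cfsg.Agent.Lib.Blocks.Semidihedral.Contributions

/-!
# The invariants of a block with semidihedral defect group
-/

set_option linter.style.haveILetI false
set_option linter.unusedSectionVars false

namespace Cfsg.Agent.Blocks.Semidihedral

open Cfsg.Agent.Blocks Cfsg.Agent.Characters Cfsg.Agent.Blocks.Star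
open Cfsg.Agent.Blocks.CentralStep Cfsg.Agent.Blocks.Quaternion
open Cfsg.Agent.BlockCharsA Cfsg.Agent.BlockCharsA.BrauerPairs Cfsg.Agent.BlockCharsA.PairConj
open Cfsg.Agent.BlockCharsA.PairMax Cfsg.Agent.BlockCharsA.Contrib
open scoped ComplexConjugate

universe u

variable {G : Type u} [Group G] [Finite G] {M : Ideal Cfsg.AlgInt}
  {B : Set (Cfsg.IrrCharacter G)} {D : Subgroup G}
  {e : Set (Cfsg.IrrCharacter (Subgroup.centralizer (D : Set G)))} {r : D} {N : ℕ}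

theorem IsSD.z_cen (h : IsSD D r N) :
    ((r ^ (N / 2) : D) : G) ∈ Subgroup.centralizer (D : Set G) :=
  Subgroup.mem_centralizer_iff.2 fun x hx => congrArg Subtype.val (h.z_central ⟨x, hx⟩)

/-- The setting above the centraliser of the involution, and the local columns. -/
theorem exists_setting (hM : Cfsg.IsPModular 2 M) (hmax : Cfsg.IsMaximalBrauerPair 2 M B D e)
    (h : IsSD D r N) {z : D} (hz : z = r ^ (N / 2)) [Fintype (gAt 2 M e (z : G))] :
    ∃ a, ∃ S : Setting M B D e z (gAt 2 M e (z : G)) a, ∃ g, g ≤ 1 ∧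
      ∃ c₀, IsColsOn M a (upz S.cen z) (gAt 2 M e (z : G))
        (gramA ((N / 4 - 1) + ((N / 4 - 1) + 1)) g) c₀ := by
  classical
  have hcen : (z : G) ∈ Subgroup.centralizer (D : Set G) := hz ▸ h.z_cen
  obtain ⟨a, hmaxa, hmat⟩ := exists_maximal_central hM hmax hcen
  set φ : D ≃* top' D (z : G) := (Subgroup.subgroupOfEquivOfLe (top_le z hcen)).symm with hφ
  have hφv : ∀ v, φ v = upz hcen v := fun v => rfl
  have h' := h.map_equiv φ
  have hq : (φ r) ^ (N / 2) = upz hcen z := by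
    rw [← map_pow, hφv]; exact congrArg (upz hcen) hz.symm
  have hc : (((φ r) ^ (N / 2) : top' D (z : G)) : CU (z : G)) ∈ Subgroup.center (CU (z : G)) := by
    rw [hq]
    exact Subgroup.mem_center_iff.2 fun x => Subtype.ext (commute_of_mem_CU x.2).eq.symm
  have hone : ∀ v w : D, v ≠ 1 → z ∉ Subgroup.zpowers v → w ≠ 1 → z ∉ Subgroup.zpowers w →
      Fused 2 M a (upz hcen v) (upz hcen w) := by
    intro v w hv1 hv hw1 hw
    have key : ∀ {v : D}, v ≠ 1 → z ∉ Subgroup.zpowers v →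
        upz hcen v ∉ Subgroup.zpowers (φ r) ∧ upz hcen v * upz hcen v = 1 :=
      fun {v} hv1 hv => (h'.short_iff (upz_ne_one hcen hv1)).1
        (by rw [hq]; exact fun hm => hv ((long_iff hcen v).1 hm))
    obtain ⟨d, hd⟩ := h'.refl_conj (key hv1 hv).1 (key hv1 hv).2 (key hw1 hw).1 (key hw1 hw).2
    refine ⟨(d : CU (z : G)), ?_, ?_⟩
    · rw [hd]; rfl
    · rw [eps_conj_top hM hmaxa, hd]
  obtain ⟨s, hsR, hs2⟩ := h.split
  have hs1 : s ≠ 1 := fun e' => hsR (e' ▸ Subgroup.one_mem _)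
  have S : Setting M B D e z (gAt 2 M e (z : G)) a :=
    { hM := hM
      hmax := hmax
      cen := hcen
      ne := hz ▸ h.z_facts.1
      sq := hz ▸ h.z_facts.2
      max := hmaxa
      mat := hmat
      invol := fun v hv1 hv => ((h.short_iff hv1).1 (hz ▸ hv)).2
      one := hone
      ex := ⟨s, hs1, hz.symm ▸ (h.short_iff hs1).2 ⟨hsR, hs2⟩⟩ }
  obtain ⟨g, hg, c₀, hc₀⟩ := local_out hM hmaxa h' hc
  rw [hq] at hc₀
  exact ⟨a, S, g, hg, c₀, hc₀⟩

set_option maxHeartbeats 1000000 in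
/-- The invariants. -/
theorem invariants (hM : Cfsg.IsPModular 2 M) (hmax : Cfsg.IsMaximalBrauerPair 2 M B D e)
    (h : IsSD D r N) {j : ℕ} (hN : N = 2 ^ j) :
    ∃ g, g ≤ 1 ∧ Nat.card B = N / 2 + 3 + g ∧ Cfsg.blockRank 2 B ≤ 2 + g ∧
      (Cfsg.blockRank 2 B = 1 → g = 0) ∧
      Nat.card {χ : Cfsg.IrrCharacter G // χ ∈ B ∧ Cfsg.blockHeight 2 B (χ : G → ℂ) = 0} = 4 ∧
      Nat.card {χ : Cfsg.IrrCharacter G // χ ∈ B ∧ Cfsg.blockHeight 2 B (χ : G → ℂ) = 1} =
        N / 2 - 1 ∧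
      ∀ χ ∈ B, Cfsg.blockHeight 2 B (χ : G → ℂ) = 0 ∨ Cfsg.blockHeight 2 B (χ : G → ℂ) = 1 ∨
        Cfsg.blockHeight 2 B (χ : G → ℂ) = j - 1 := by
  classical
  haveI := fact_prime_of_pm hM
  haveI := Fintype.ofFinite G
  haveI := Fintype.ofFinite B
  haveI := Fintype.ofFinite (Cfsg.IrrCharacter G)
  have hb := hmax.1.2.1
  obtain ⟨q₄, hq₄e, hq₄, hNq⟩ := h.exists_quarter
  set z : D := r ^ (N / 2) with hz
  set m := N / 4 - 1 with hm
  haveI := Fintype.ofFinite (gAt 2 M e (z : G))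
  obtain ⟨a, S, g, hg, c₀, hc₀⟩ := exists_setting hM hmax h hz
  obtain ⟨c, hc⟩ := S.transfer hc₀
  -- the arrangement
  set δ : B → ℝ := fun χ => (Cfsg.charDegree ((χ : Cfsg.IrrCharacter G) : G → ℂ) : ℝ)
  obtain ⟨ρ, σ, hσ, hρ⟩ := lattice (M := m + (m + 1)) ⟨m, by omega⟩ hg hc.gram (δ := δ)
    (fun χ => Nat.cast_ne_zero.2 (charDegree_pos _).ne') (fun i => by
      apply Complex.ofReal_injective
      have e0 := (hc.good i).1 1 (by simp)
      simp only [← charDegree_cast] at e0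
      simp only [δ, Complex.ofReal_sum, Complex.ofReal_mul, Complex.ofReal_intCast,
        Complex.ofReal_natCast, Complex.ofReal_zero]
      exact e0)
    (S.exists_col_ne hc)
  have hcard : Nat.card B = N / 2 + 3 + g := by
    rw [← Nat.card_congr ρ, Nat.card_eq_fintype_card, Pos.card_eq]
    omega
  -- the rank
  set y : Pos (m + (m + 1)) 0 g → G → ℂ := fun p s =>
    (σ p : ℂ) * ((ρ p : Cfsg.IrrCharacter G) : G → ℂ) s with hy
  have hrel : ∀ i, ∀ s : G, ¬ 2 ∣ orderOf s → ∑ p, (col (emb i) p : ℂ) * y p s = 0 := by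
    intro i s hs
    refine Eq.trans ?_ ((hc.good i).1 s hs)
    rw [← ρ.sum_comp]
    exact Finset.sum_congr rfl fun p _ => by simp only [hρ, Int.cast_mul, hy]; ring
  set Φ : Fin 2 ⊕ Fin g → G → ℂ := Sum.elim ![y .a, y .b] fun i => y (.k i) with hΦ
  have hspan : ∀ χ ∈ B, ∃ t : Fin 2 ⊕ Fin g → ℂ, ∀ s : G, ¬ 2 ∣ orderOf s →
      (χ : G → ℂ) s = ∑ i, t i * Φ i s := by
    intro χ hχ
    obtain ⟨p, hp⟩ := ρ.surjective ⟨χ, hχ⟩
    refine ⟨Sum.elim ![(σ p : ℂ) * (cA p : ℂ), (σ p : ℂ) * (cB p : ℂ)]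
      fun _ => (σ p : ℂ) * (cK p : ℂ), fun s hs => ?_⟩
    have hV := fun i => hrel (Sum.inl i) s hs
    have hC := hrel (Sum.inr (Sum.inl ())) s hs
    have hH := hrel (Sum.inr (Sum.inr ())) s hs
    simp [emb, Pos.sum_eq, col, Finset.sum_ite_eq'] at hV hC hH
    have hy' : y p s = (cA p : ℂ) * y .a s + (cB p : ℂ) * y .b s +
        (cK p : ℂ) * ∑ i : Fin g, y (.k i) s := by
      rcases (show g = 0 ∨ g = 1 by omega) with rfl | rfl <;> simp at hH ⊢ <;> cases p with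
      | a => simp [cA, cB, cK]
      | b => simp [cA, cB, cK]
      | u => simp [cA, cB, cK]; linear_combination hH
      | v => simp [cA, cB, cK]; linear_combination hC - hH
      | x i => simp [cA, cB, cK]; linear_combination hV i
      | g i => exact i.elim0
      | k i => first
        | exact i.elim0
        | (simp [cA, cB, cK]; rw [Subsingleton.elim i 0])
    have hχy : (χ : G → ℂ) s = (σ p : ℂ) * y p s := by
      rw [hy]
      rcases hσ p with e' | e' <;> simp [e', hp]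
    rw [hχy, hy', Fintype.sum_sum_type, Fin.sum_univ_two]
    simp [hΦ, mul_add, Finset.mul_sum, mul_assoc]
  obtain ⟨hrank, -⟩ := indep_of_rank Φ hspan
  rw [Fintype.card_sum, Fintype.card_fin, Fintype.card_fin] at hrank
  -- the column at the involutions outside the rotations
  obtain ⟨s, hsR, hs2⟩ := h.split
  have hs1 : s ≠ 1 := fun e' => hsR (e' ▸ Subgroup.one_mem _)
  have hsz : z ∉ Subgroup.zpowers s := (h.short_iff hs1).2 ⟨hsR, hs2⟩
  have hshort : ∀ v : D, v ≠ 1 → z ∉ Subgroup.zpowers v → Fused 2 M e s v := fun v hv1 hv => by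
    obtain ⟨hvR, hv2⟩ := (h.short_iff hv1).1 hv
    obtain ⟨d, rfl⟩ := h.refl_conj hsR hs2 hvR hv2
    exact ⟨(d : G), rfl, eps_conj_top hM hmax s d⟩
  obtain ⟨τ, hfix, hτ, hτsum, hτ0⟩ : ∃ τ : B → ℤ,
      (Fused 2 M e s z → ∀ χ, τ χ = 0) ∧
      (¬ Fused 2 M e s z → ∀ χ θ : B, wgt 2 M e ((χ : Cfsg.IrrCharacter G) : G → ℂ)
        ((θ : Cfsg.IrrCharacter G) : G → ℂ) s = ((τ χ * τ θ : ℤ) : ℂ) / 4) ∧
      ∑ χ, τ χ ^ 2 ≤ 4 ∧
      ((∀ χ, τ χ = 0) ∨
        ∀ χ : B, Cfsg.blockHeight 2 B ((χ : Cfsg.IrrCharacter G) : G → ℂ) = 0 → τ χ ≠ 0) := by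
    by_cases hf : Fused 2 M e s z
    · exact ⟨fun _ => 0, fun _ _ => rfl, fun h => absurd hf h, by simp, Or.inl fun _ => rfl⟩
    obtain ⟨hc4, hel⟩ := h.cent_card hsR hs2
    obtain ⟨τ, -, -, -, hwgt, hsum, h0⟩ := exists_col_invol hM hmax
      (congrArg Subtype.val hs2) hs1 hc4 hel fun w hw => by
        obtain ⟨x, hx, -⟩ := id hw
        have hw1 : w ≠ 1 := hw.ne_one hs1
        have hw2 : w * w = 1 := by
          refine Subtype.ext ?_
          have e' : (s : G) * s = 1 := congrArg Subtype.val hs2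
          rw [Subgroup.coe_mul, hx, show x * (s : G) * x⁻¹ * (x * (s : G) * x⁻¹) =
            x * ((s : G) * s) * x⁻¹ by group, e', mul_one, mul_inv_cancel]
          rfl
        refine (h.cent_card (fun hR => ?_) hw2).1.le
        rcases h.sq_eq_one hR hw2 with e' | e'
        · exact hw1 e'
        · exact hf (by rwa [e'] at hw)
    exact ⟨τ, fun hf' => absurd hf' hf, fun _ => hwgt, hsum.le, Or.inr h0⟩
  -- the contributions
  have hd : 2 ^ Cfsg.blockDefect 2 B = 8 * (m + 1) := by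
    rw [← card_defectGroup hM hb (isDefectGroup_of_maximal hM hmax), h.card]
    omega
  have hX := contrib_eq_proj hM hmax hg hd hshort hs1 hsz hfix hτ hc hσ hρ
  have hsq : ∀ p, σ p * σ p = 1 := fun p => by rcases hσ p with e' | e' <;> simp [e']
  have hodd : ¬ (2 : ℤ) ∣ (m : ℤ) := by
    obtain ⟨i, hi⟩ := hq₄e
    omega
  have hzero : ∀ p, Cfsg.blockHeight 2 B ((ρ p : Cfsg.IrrCharacter G) : G → ℂ) = 0 ↔
      (p = .a ∨ p = .b ∨ p = .u ∨ p = .v) := by
    intro p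
    rw [height_zero_iff hM hb (ρ p).2 (hX p p), hsq, one_mul]
    obtain ⟨i, hi⟩ : (2 : ℤ) ∣ (m : ℤ) + 1 := by omega
    rw [mul_assoc (2 : ℤ), Nat.cast_ofNat, dvd_sub_left (dvd_mul_right 2 _)]
    simp only [proj]
    push_cast
    rw [hi]
    rcases (show g = 0 ∨ g = 1 by omega) with rfl | rfl <;> cases p <;>
      simp [cA, cB, cK] <;> ring_nf <;> omega
  have h4 : τ (ρ .a) = 0 ∧ τ (ρ .b) = 0 ∧ τ (ρ .u) = 0 ∧ τ (ρ .v) = 0 ∧ (∀ p, τ (ρ p) = 0) ∨
      ∀ p, ¬ (p = .a ∨ p = .b ∨ p = .u ∨ p = .v) → τ (ρ p) = 0 := by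
    rcases hτ0 with h0 | h0
    · exact Or.inl ⟨h0 _, h0 _, h0 _, h0 _, fun p => h0 _⟩
    right
    intro p hp
    have hone : ∀ p, (p = .a ∨ p = .b ∨ p = .u ∨ p = .v) → 1 ≤ τ (ρ p) ^ 2 := fun p hp => by
      have := mul_self_pos.2 (h0 (ρ p) ((hzero p).2 hp))
      rw [sq]; omega
    have e0 : ∑ p, τ (ρ p) ^ 2 ≤ 4 := le_of_eq_of_le (ρ.sum_comp fun χ => τ χ ^ 2) hτsum
    have e1 := Finset.sum_le_sum_of_subset_of_nonneg (Finset.subset_univ
      ({.a, .b, .u, .v, p} : Finset (Pos (m + (m + 1)) 0 g))) (f := fun p => τ (ρ p) ^ 2)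
      fun t _ _ => sq_nonneg _
    simp only [not_or] at hp
    rw [Finset.sum_insert (by simp [Ne.symm hp.1]), Finset.sum_insert (by simp [Ne.symm hp.2.1]),
      Finset.sum_insert (by simp [Ne.symm hp.2.2.1]), Finset.sum_pair (Ne.symm hp.2.2.2)] at e1
    have := hone .a (Or.inl rfl)
    have := hone .b (Or.inr (Or.inl rfl))
    have := hone .u (Or.inr (Or.inr (Or.inl rfl)))
    have := hone .v (Or.inr (Or.inr (Or.inr rfl)))
    exact pow_eq_zero_iff two_ne_zero |>.1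
      (le_antisymm (by omega) (sq_nonneg _))
  have hτ' : ∀ p, ¬ (p = .a ∨ p = .b ∨ p = .u ∨ p = .v) → τ (ρ p) = 0 := fun p hp => by
    rcases h4 with h4 | h4
    exacts [h4.2.2.2.2 p, h4 p hp]
  have ha0 := (hzero .a).2 (Or.inl rfl)
  have hx1 : ∀ i, Cfsg.blockHeight 2 B ((ρ (.x i) : Cfsg.IrrCharacter G) : G → ℂ) = 1 := by
    intro i
    obtain ⟨-, hv⟩ := padicValInt_contrib hM hb (ρ .a).2 (ρ (.x i)).2 ha0 (hX .a (.x i))
    rw [hτ' (.x i) (by simp)] at hv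
    rw [← hv]
    have e' : σ .a * σ (.x i) * proj (m + 1) (.a : Pos (m + (m + 1)) 0 g) (.x i) =
        -2 * (σ .a * σ (.x i)) := by
      simp [proj, cA, cB, cK]; ring
    rw [e', mul_zero, mul_zero, sub_zero]
    rcases hσ (.a : Pos (m + (m + 1)) 0 g) with e1 | e1 <;>
      rcases hσ (.x i : Pos (m + (m + 1)) 0 g) with e2 | e2 <;> rw [e1, e2] <;>
      norm_num [padicValInt]
  have hkh : ∀ i, Cfsg.blockHeight 2 B ((ρ (.k i) : Cfsg.IrrCharacter G) : G → ℂ) = j - 1 := by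
    intro i
    obtain ⟨-, hv⟩ := padicValInt_contrib hM hb (ρ .a).2 (ρ (.k i)).2 ha0 (hX .a (.k i))
    rw [hτ' (.k i) (by simp)] at hv
    rw [← hv]
    have hpow : 2 * ((m : ℤ) + 1) = ((2 ^ (j - 1) : ℕ) : ℤ) := by
      have : 2 ^ (j - 1) * 2 = 2 ^ j := by
        rw [← pow_succ, Nat.sub_add_cancel (by
          by_contra hj
          rw [show j = 0 by omega] at hN
          omega)]
      omega
    have e' : σ .a * σ (.k i) * proj (m + 1) (.a : Pos (m + (m + 1)) 0 g) (.k i) =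
        σ .a * σ (.k i) * ((2 ^ (j - 1) : ℕ) : ℤ) := by
      rw [← hpow]; simp [proj, cA, cB, cK]
    rw [e', mul_zero, mul_zero, sub_zero]
    rcases hσ (.a : Pos (m + (m + 1)) 0 g) with e1 | e1 <;>
      rcases hσ (.k i : Pos (m + (m + 1)) 0 g) with e2 | e2 <;> rw [e1, e2] <;>
      simp [padicValInt, Int.natAbs_pow, padicValNat.prime_pow]
  have hone : ∀ p, Cfsg.blockHeight 2 B ((ρ p : Cfsg.IrrCharacter G) : G → ℂ) = 1 ↔
      ∃ i, p = .x i := by
    intro p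
    constructor
    · intro h1
      cases p with
      | x i => exact ⟨i, rfl⟩
      | g i => exact i.elim0
      | k i =>
        rw [hkh i] at h1
        have hj : (4 : ℕ) * q₄ = 2 ^ j := hNq ▸ hN
        rw [show j = 2 by omega] at hj
        omega
      | _ => rw [(hzero _).2 (by simp)] at h1; omega
    · rintro ⟨i, rfl⟩; exact hx1 i
  refine ⟨g, hg, hcard, hrank, fun hl => ?_, ?_, ?_, fun χ hχ => ?_⟩
  · -- one Brauer character leaves no extra position
    by_contra hg0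
    have hg1 : g = 1 := by omega
    subst hg1
    obtain ⟨w, Φ', -, -, hrow, -, -⟩ := exists_rows_rank_one hM hb hl
    have hform : ∀ p p', contrib 2 B (ρ p : Cfsg.IrrCharacter G) (ρ p') =
        (w (ρ p : Cfsg.IrrCharacter G) : ℂ) * (w (ρ p' : Cfsg.IrrCharacter G) : ℂ) *
          (((2 ^ Cfsg.blockDefect 2 B : ℕ) : ℂ) / (Nat.card G : ℂ) * regSum 2 Φ' Φ') := by
      intro p p'
      simp only [contrib, regSum_eq_sum, Finset.mul_sum]
      refine Finset.sum_congr rfl fun x _ => ?_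
      by_cases hx : 2 ∣ orderOf x
      · simp [hx]
      · simp only [hx, not_false_eq_true, if_true]
        rw [hrow _ (ρ p).2 x hx, hrow _ (ρ p').2 x hx, map_mul, map_intCast]
        ring
    have key : contrib 2 B (ρ .a : Cfsg.IrrCharacter G) (ρ (.k 0)) ^ 2 =
        contrib 2 B (ρ .a : Cfsg.IrrCharacter G) (ρ .a) *
          contrib 2 B (ρ (.k 0) : Cfsg.IrrCharacter G) (ρ (.k 0)) := by
      rw [hform, hform, hform]; ring
    rw [hX, hX, hX, hτ' (.k 0) (by simp)] at key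
    have key' := Int.cast_injective (α := ℂ) (by push_cast at key ⊢; simpa only [mul_zero, sub_zero] using key :
      (((σ .a * σ (.k 0) * proj (m + 1) (.a : Pos (m + (m + 1)) 0 1) (.k 0)) ^ 2 : ℤ) : ℂ) =
      (((σ .a * σ .a * proj (m + 1) (.a : Pos (m + (m + 1)) 0 1) .a -
        2 * ((m : ℤ) + 1) * (τ (ρ .a) * τ (ρ .a))) *
        (σ (.k 0) * σ (.k 0) * proj (m + 1) (.k 0 : Pos (m + (m + 1)) 0 1) (.k 0)) : ℤ) : ℂ))
    rw [mul_pow, mul_pow, sq (σ _), sq (σ _), hsq, hsq, one_mul, one_mul, one_mul] at key'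
    simp [proj, cA, cB, cK] at key'
    obtain ⟨i, hi⟩ : (2 : ℤ) ∣ (m : ℤ) + 1 := by omega
    have hne : (m : ℤ) + 1 ≠ 0 := by omega
    have e1 : 1 + 3 * ((m : ℤ) + 1) - 2 * ((m : ℤ) + 1) * (τ (ρ .a) * τ (ρ .a)) = (m : ℤ) + 1 := by
      apply mul_right_cancel₀ (mul_ne_zero (four_ne_zero (α := ℤ)) hne)
      linear_combination -key'
    rw [hi, show 2 * (2 * i) * (τ (ρ .a) * τ (ρ .a)) = 4 * (i * (τ (ρ .a) * τ (ρ .a))) by ring]
      at e1
    omega
  · let E : {p : Pos (m + (m + 1)) 0 g // p = .a ∨ p = .b ∨ p = .u ∨ p = .v} ≃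
        {χ : Cfsg.IrrCharacter G // χ ∈ B ∧ Cfsg.blockHeight 2 B (χ : G → ℂ) = 0} :=
      Equiv.ofBijective (fun p => ⟨(ρ p.1 : Cfsg.IrrCharacter G), (ρ p.1).2, (hzero p.1).2 p.2⟩)
        ⟨fun p p' e' => Subtype.ext (ρ.injective (Subtype.ext (congrArg Subtype.val e' :))),
          fun ⟨χ, hχ, h'⟩ => ⟨⟨ρ.symm ⟨χ, hχ⟩, (hzero _).1 (by rw [ρ.apply_symm_apply]; exact h')⟩,
            Subtype.ext (show (ρ (ρ.symm ⟨χ, hχ⟩) : Cfsg.IrrCharacter G) = χ by
              rw [ρ.apply_symm_apply])⟩⟩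
    rw [← Nat.card_congr E, Nat.card_eq_fintype_card,
      Fintype.card_of_subtype ({.a, .b, .u, .v} : Finset _) (fun p => by simp)]
    simp
  · let E : {p : Pos (m + (m + 1)) 0 g // ∃ i, p = .x i} ≃
        {χ : Cfsg.IrrCharacter G // χ ∈ B ∧ Cfsg.blockHeight 2 B (χ : G → ℂ) = 1} :=
      Equiv.ofBijective (fun p => ⟨(ρ p.1 : Cfsg.IrrCharacter G), (ρ p.1).2, (hone p.1).2 p.2⟩)
        ⟨fun p p' e' => Subtype.ext (ρ.injective (Subtype.ext (congrArg Subtype.val e' :))),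
          fun ⟨χ, hχ, h'⟩ => ⟨⟨ρ.symm ⟨χ, hχ⟩, (hone _).1 (by rw [ρ.apply_symm_apply]; exact h')⟩,
            Subtype.ext (show (ρ (ρ.symm ⟨χ, hχ⟩) : Cfsg.IrrCharacter G) = χ by
              rw [ρ.apply_symm_apply])⟩⟩
    rw [← Nat.card_congr E, Nat.card_eq_fintype_card,
      Fintype.card_of_subtype (Finset.univ.image (Pos.x : Fin (m + (m + 1)) → Pos _ 0 g))
        (fun p => by simp [eq_comm]),
      Finset.card_image_of_injective _ fun i i' e' => Pos.x.inj e', Finset.card_univ,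
      Fintype.card_fin]
    omega
  · obtain ⟨p, hp⟩ := ρ.surjective ⟨χ, hχ⟩
    have e' : χ = (ρ p : Cfsg.IrrCharacter G) := by rw [hp]
    subst e'
    cases p with
    | x i => exact Or.inr (Or.inl (hx1 i))
    | g i => exact i.elim0
    | k i => exact Or.inr (Or.inr (hkh i))
    | _ => exact Or.inl ((hzero _).2 (by simp))

end Cfsg.Agent.Blocks.Semidihedral
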